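import Mathlib

/-!
For odd `p`, a `p'`-automorphism of a finite `p`-group fixing all elements of order `p` is trivial.
-/

set_option autoImplicit false

namespace Cfsg.Agent.Coprime23

universe u

open Subgroup

lemma pow_mul_eq_of_central {G : Type u} [Group G] {a b z : G} (h : b * a = a * b * z)
    (hzb : Commute z b) (hza : Commute z a) : ∀ n : ℕ, b ^ n * a = a * b ^ n * z ^ n := by
  intro n
  induction n with
  | zero => simp
  | succ k ih =>
    rw [pow_succ', mul_assoc, ih]
    calc b * (a * b ^ k * z ^ k) = (b * a) * b ^ k * z ^ k := by group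
      _ = a * b * (z * b ^ k) * z ^ k := by rw [h]; group
      _ = a * b * (b ^ k * z) * z ^ k := by rw [(hzb.pow_right k).eq]
      _ = a * (b * b ^ k) * (z * z ^ k) := by group
      _ = _ := by rw [← pow_succ', ← pow_succ']

lemma mul_pow_of_central {G : Type u} [Group G] {a b z : G} (h : b * a = a * b * z)
    (hzb : Commute z b) (hza : Commute z a) :
    ∀ n : ℕ, (a * b) ^ n = a ^ n * b ^ n * z ^ (n * (n - 1) / 2) := by
  intro n
  induction n with
  | zero => simp
  | succ k ih =>
    have e : (k + 1) * (k + 1 - 1) / 2 = k + k * (k - 1) / 2 := by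
      rcases k with _ | j
      · simp
      · simp only [Nat.add_sub_cancel]
        have h1 : (j + 1 + 1) * (j + 1) = (j + 1) * j + 2 * (j + 1) := by ring
        rw [h1, Nat.add_mul_div_left _ _ (by norm_num : 0 < 2)]
        ring
    rw [pow_succ, ih, e]
    set T := k * (k - 1) / 2
    have hab : Commute (z ^ T) (a * b) := (hza.mul_right hzb).pow_left T
    calc a ^ k * b ^ k * z ^ T * (a * b) = a ^ k * b ^ k * (z ^ T * (a * b)) := by group
      _ = a ^ k * b ^ k * ((a * b) * z ^ T) := by rw [hab.eq]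
      _ = a ^ k * (b ^ k * a) * b * z ^ T := by group
      _ = a ^ k * (a * b ^ k * z ^ k) * b * z ^ T := by rw [pow_mul_eq_of_central h hzb hza]
      _ = a ^ k * a * b ^ k * (z ^ k * b) * z ^ T := by group
      _ = a ^ k * a * b ^ k * (b * z ^ k) * z ^ T := by rw [(hzb.pow_left k).eq]
      _ = (a ^ k * a) * (b ^ k * b) * (z ^ k * z ^ T) := by group
      _ = _ := by rw [← pow_succ, ← pow_succ, ← pow_add]

lemma pow_apply_eq {P : Type u} [Group P] (α : MulAut P) {a c : P} (h : α a = a * c)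
    (hc : α c = c) : ∀ n : ℕ, (α ^ n) a = a * c ^ n := by
  intro n
  induction n with
  | zero => simp
  | succ k ih =>
    rw [pow_succ', MulAut.mul_apply, ih, map_mul, map_pow, h, hc, mul_assoc, ← pow_succ']

lemma eq_of_commutator_fixed {P : Type u} [Group P] [Finite P] {p : ℕ} [Fact p.Prime]
    (hP : IsPGroup p P) (α : MulAut P) (hcop : (orderOf α).Coprime p) {a : P}
    (hc : α (a⁻¹ * α a) = a⁻¹ * α a) : α a = a := by
  set c := a⁻¹ * α a with hcdef
  have h := pow_apply_eq α (a := a) (c := c) (by rw [hcdef, mul_inv_cancel_left]) hc (orderOf α)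
  rw [pow_orderOf_eq_one] at h
  simp only [MulAut.one_apply, left_eq_mul] at h
  obtain ⟨k, hk⟩ := IsPGroup.iff_orderOf.mp hP c
  have h1 : orderOf c ∣ orderOf α := orderOf_dvd_of_pow_eq_one h
  rw [hk] at h1
  have h2 : p ^ k = 1 := Nat.eq_one_of_dvd_coprimes (hcop.pow_right k) h1 dvd_rfl
  rw [← hk, orderOf_eq_one_iff] at h2
  rw [hcdef, inv_mul_eq_one] at h2
  exact h2.symm

lemma normal_coatom {U : Type u} [Group U] [Finite U] {p : ℕ} [Fact p.Prime] (hU : IsPGroup p U)
    {K : Subgroup U} (hK : IsCoatom K) :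
    K.Normal ∧ commutator U ≤ K ∧ ∀ x : U, x ^ p ∈ K := by
  haveI := hU.isNilpotent
  have hiff : Group.IsNilpotent U ↔ ∀ H : Subgroup U, IsCoatom H → H.Normal :=
    (Group.isNilpotent_of_finite_tfae (G := U)).out 0 2
  have hn : K.Normal := hiff.mp inferInstance K hK
  haveI := hn
  have hmin : ∀ H : Subgroup (U ⧸ K), H = ⊥ ∨ H = ⊤ := by
    intro H
    have hle : K ≤ H.comap (QuotientGroup.mk' K) := by
      intro x hx
      rw [Subgroup.mem_comap, QuotientGroup.mk'_apply, (QuotientGroup.eq_one_iff x).mpr hx]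
      exact H.one_mem
    rcases hle.lt_or_eq with h | h
    · right
      have h1 := hK.2 _ h
      rw [← Subgroup.comap_top (QuotientGroup.mk' K)] at h1
      exact Subgroup.comap_injective (QuotientGroup.mk'_surjective K) h1
    · left
      have h1 := congrArg (Subgroup.map (QuotientGroup.mk' K)) h.symm
      rwa [Subgroup.map_comap_eq_self_of_surjective (QuotientGroup.mk'_surjective K),
        QuotientGroup.map_mk'_self] at h1
  have hQ : IsPGroup p (U ⧸ K) := hU.to_quotient K
  haveI : Nontrivial (U ⧸ K) := QuotientGroup.nontrivial_iff.mpr hK.1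
  obtain ⟨n, hn0, hn1⟩ := hQ.nontrivial_iff_card.mp inferInstance
  obtain ⟨x, hx⟩ := exists_prime_orderOf_dvd_card' (G := U ⧸ K) p (hn1 ▸ dvd_pow_self p hn0.ne')
  have htop : Subgroup.zpowers x = ⊤ := (hmin _).resolve_left (by
    rw [Subgroup.zpowers_eq_bot]
    rintro rfl
    rw [orderOf_one] at hx
    exact (Fact.out : p.Prime).ne_one hx.symm)
  have hcard : Nat.card (U ⧸ K) = p := by
    rw [← hx, ← Nat.card_zpowers, htop, Subgroup.card_top]
  haveI : IsCyclic (U ⧸ K) := isCyclic_of_prime_card hcard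
  refine ⟨hn, ?_, fun y => ?_⟩
  · rw [_root_.commutator_def, Subgroup.commutator_le]
    intro a _ b _
    rw [← QuotientGroup.eq_one_iff]
    show QuotientGroup.mk' K _ = 1
    rw [map_commutatorElement, commutatorElement_eq_one_iff_mul_comm]
    exact mul_comm' _ _
  · rw [← QuotientGroup.eq_one_iff, QuotientGroup.mk_pow, ← hcard]
    exact pow_card_eq_one'

/-- restriction of an automorphism to an invariant subgroup -/
noncomputable def restrictAut {P : Type u} [Group P] [Finite P] (α : MulAut P) (U : Subgroup P)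
    (hU : ∀ u ∈ U, α u ∈ U) : MulAut U :=
  MulEquiv.ofBijective
    ((α.toMonoidHom.comp U.subtype).codRestrict U fun u => hU u u.2)
    (Finite.injective_iff_bijective.mp fun a b h => Subtype.ext (α.injective (congrArg Subtype.val h)))

lemma restrictAut_apply {P : Type u} [Group P] [Finite P] (α : MulAut P) (U : Subgroup P)
    (hU : ∀ u ∈ U, α u ∈ U) (u : U) : ((restrictAut α U hU u : U) : P) = α u := rfl

/-- A `p'`-automorphism of a finite `p`-group, `p` odd, fixing every element of order `p` is trivial. -/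
theorem fix_of_fix_omega {P : Type u} [Group P] [Finite P] {p : ℕ} [Fact p.Prime]
    (hP : IsPGroup p P) (hp : p ≠ 2) (α : MulAut P) (hcop : (orderOf α).Coprime p)
    (h : ∀ x : P, x ^ p = 1 → α x = x) : ∀ x : P, α x = x := by
  suffices hU : ∀ U : Subgroup P, (∀ u ∈ U, α u ∈ U) → ∀ u ∈ U, α u = u from
    fun x => hU ⊤ (fun _ _ => Subgroup.mem_top _) x (Subgroup.mem_top x)
  intro U
  induction U using WellFoundedLT.induction with
  | _ U ih =>
    intro hinv a ha
    by_cases hU : U = ⊥
    · rw [hU, Subgroup.mem_bot] at ha; rw [ha, map_one]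
    set β := restrictAut α U hinv
    set Φ := (frattini U).map U.subtype with hΦ
    haveI : Nontrivial U := U.nontrivial_iff_ne_bot.mpr hU
    have hUp : IsPGroup p U := hP.to_subgroup U
    have hΦU : Φ ≤ U := Subgroup.map_subtype_le _
    have hlt : Φ < U := by
      refine lt_of_le_of_ne hΦU fun heq => ?_
      have h1 : frattini U = ⊤ := by
        apply Subgroup.map_injective U.subtype_injective
        rw [← MonoidHom.range_eq_map, Subgroup.range_subtype]; exact heq
      exact bot_ne_top (frattini_nongenerating (K := (⊥ : Subgroup U)) (by rw [h1, sup_top_eq]))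
    have hΦinv : ∀ u ∈ Φ, α u ∈ Φ := by
      rintro _ ⟨v, hv, rfl⟩
      refine ⟨β v, ?_, rfl⟩
      have := (Subgroup.characteristic_iff_comap_eq.mp (frattini_characteristic (G := U))) β
      rw [← this] at hv
      exact hv
    have hfixΦ : ∀ u ∈ Φ, α u = u := ih Φ hlt hΦinv
    have hnorm : ∀ u ∈ U, ∀ v ∈ Φ, u * v * u⁻¹ ∈ Φ := by
      rintro u hu _ ⟨v, hv, rfl⟩
      exact ⟨⟨u, hu⟩ * v * ⟨u, hu⟩⁻¹,
        (inferInstance : (frattini U).Normal).conj_mem v hv _, rfl⟩
    set C := U ⊓ Subgroup.centralizer (Φ : Set P) with hC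
    have hcC : ∀ u ∈ U, u⁻¹ * α u ∈ C := by
      intro u hu
      refine ⟨U.mul_mem (U.inv_mem hu) (hinv u hu), ?_⟩
      refine Subgroup.mem_centralizer_iff.mpr fun v hv => ?_
      have h1 : α (u * v * u⁻¹) = u * v * u⁻¹ := hfixΦ _ (hnorm u hu v hv)
      rw [map_mul, map_mul, map_inv, hfixΦ v hv] at h1
      have h2 : u⁻¹ * (α u * v * (α u)⁻¹) * α u = u⁻¹ * (u * v * u⁻¹) * α u := by rw [h1]
      simpa [mul_assoc] using h2.symm
    by_cases hCU : C = U
    · -- `Φ` is central in `U`
      have hcen : ∀ v ∈ Φ, ∀ u ∈ U, u * v = v * u := fun v hv u hu =>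
        ((Subgroup.mem_centralizer_iff.mp (hCU.symm.le hu).2) v hv).symm
      have hbr : ∀ (u v : U), u⁻¹ * v⁻¹ * u * v ∈ frattini U ∧ u ^ p ∈ frattini U := by
        intro u v
        rw [frattini, Order.radical]
        simp only [Subgroup.mem_iInf]
        refine ⟨fun K hK => ?_, fun K hK => (normal_coatom hUp hK).2.2 u⟩
        have := (normal_coatom hUp hK).2.1
          (Subgroup.commutator_mem_commutator (Subgroup.mem_top u⁻¹) (Subgroup.mem_top v⁻¹))
        simpa [commutatorElement_def, mul_assoc] using this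
      have hb : α a ∈ U := hinv a ha
      have haU : a⁻¹ ∈ U := U.inv_mem ha
      set z := (α a)⁻¹ * a * α a * a⁻¹ with hzdef
      have hzΦ : z ∈ Φ := by
        refine ⟨⟨α a, hb⟩⁻¹ * ⟨a, ha⟩ * ⟨α a, hb⟩ * ⟨a, ha⟩⁻¹, ?_, rfl⟩
        have h1 := (hbr ⟨α a, hb⟩ ⟨a, ha⟩⁻¹).1
        simpa [mul_assoc] using h1
      have hbpΦ : α a ^ p ∈ Φ := ⟨⟨α a, hb⟩ ^ p, (hbr ⟨α a, hb⟩ 1).2, rfl⟩
      have hzb : Commute z (α a) := (hcen z hzΦ _ hb).symm
      have hza : Commute z a⁻¹ := (hcen z hzΦ _ haU).symm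
      have hrel : α a * a⁻¹ = a⁻¹ * α a * (α a)⁻¹ * a * α a * a⁻¹ := by group
      have hrel' : α a * a⁻¹ = a⁻¹ * α a * z := by rw [hzdef]; group
      have hzp : z ^ p = 1 := by
        have h1 := pow_mul_eq_of_central hrel' hzb hza p
        rw [← hcen _ hbpΦ _ haU] at h1
        exact left_eq_mul.mp h1
      obtain ⟨m, hm⟩ : p ∣ p * (p - 1) / 2 := by
        obtain ⟨r, hr⟩ : 2 ∣ p - 1 :=
          (Nat.Prime.even_sub_one Fact.out (by
            have := (Fact.out : p.Prime).two_le; exact hp)).two_dvd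
        exact ⟨r, by rw [hr, mul_left_comm, Nat.mul_div_cancel_left _ (by norm_num)]⟩
      have hpow : (a⁻¹ * α a) ^ p = 1 := by
        rw [mul_pow_of_central hrel' hzb hza p, hm, pow_mul, hzp, one_pow, mul_one, inv_pow,
          ← map_pow, hfixΦ (a ^ p) ⟨⟨a, ha⟩ ^ p, (hbr ⟨a, ha⟩ 1).2, rfl⟩, inv_mul_cancel]
      exact eq_of_commutator_fixed hP α hcop (h _ hpow)
    · have hClt : C < U := lt_of_le_of_ne inf_le_left hCU
      have hCinv : ∀ u ∈ C, α u ∈ C := by
        rintro u ⟨hu, hu'⟩
        refine ⟨hinv u hu, ?_⟩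
        have hu'' := Subgroup.mem_centralizer_iff.mp hu'
        refine Subgroup.mem_centralizer_iff.mpr fun v hv => ?_
        rw [← hfixΦ v hv, ← map_mul, ← map_mul, hu'' v hv]
      exact eq_of_commutator_fixed hP α hcop (ih C hClt hCinv _ (hcC a ha))

end Cfsg.Agent.Coprime23
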