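import Cfsg.Prelude.Def_Local

/-!
Basic facts on `p`-soluble groups: quotients, and existence of a nontrivial core.
-/

set_option autoImplicit false

namespace Cfsg.Agent.Coprime23

open Cfsg

universe u

lemma relIndex_map_dvd {G H : Type u} [Group G] [Group H] (f : G →* H) (A B : Subgroup G) :
    (A.map f).relIndex (B.map f) ∣ A.relIndex B := by
  have hsurj := f.subgroupMap_surjective B
  refine dvd_trans (Subgroup.index_dvd_of_le ?_) (Subgroup.index_map_dvd (A.subgroupOf B) hsurj)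
  rintro _ ⟨x, hx, rfl⟩
  exact ⟨x, hx, rfl⟩

lemma isPSolvable_map {G H : Type u} [Group G] [Group H] {p : ℕ} [Fact p.Prime] (f : G →* H)
    (hf : Function.Surjective f) (h : IsPSolvable p G) : IsPSolvable p H := by
  obtain ⟨n, C, h0, h1, hmono, hn, hfac⟩ := h
  refine ⟨n, fun i => (C i).map f, by simp [h0], ?_, fun i j hij => Subgroup.map_mono (hmono hij),
    fun i => (hn i).map f hf, fun i => ?_⟩
  · show (C (Fin.last n)).map f = ⊤
    rw [h1, Subgroup.map_top_of_surjective f hf]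
  · have hd := relIndex_map_dvd f (C i.castSucc) (C i.succ)
    rcases hfac i with ⟨m, hm⟩ | hc
    · rw [hm] at hd
      obtain ⟨j, -, hj⟩ := (Nat.dvd_prime_pow (Fact.out : p.Prime)).mp hd
      exact Or.inl ⟨j, hj⟩
    · exact Or.inr (hc.coprime_dvd_left hd)

lemma exists_core_ne_bot {G : Type u} [Group G] [Nontrivial G] {p : ℕ} [Fact p.Prime]
    (h : IsPSolvable p G) : pCore p G ≠ ⊥ ∨ pPrimeCore p G ≠ ⊥ := by
  obtain ⟨n, C, h0, h1, hmono, hn, hfac⟩ := h
  have hex : ∃ i : Fin n, C i.castSucc = ⊥ ∧ C i.succ ≠ ⊥ := by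
    by_contra hcon
    have : ∀ i : Fin (n + 1), C i = ⊥ := by
      intro i
      induction i using Fin.induction with
      | zero => exact h0
      | succ j ih => by_contra hj; exact hcon ⟨j, ih, hj⟩
    exact bot_ne_top ((this (Fin.last n)).symm.trans h1)
  obtain ⟨i, hi0, hi1⟩ := hex
  have hcard : (C i.castSucc).relIndex (C i.succ) = Nat.card (C i.succ) := by
    rw [hi0, Subgroup.relIndex_bot_left]
  rcases hfac i with ⟨m, hm⟩ | hc
  · exact Or.inl (ne_bot_of_le_ne_bot hi1 (le_sSup ⟨hn _, IsPGroup.of_card (hcard ▸ hm)⟩))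
  · exact Or.inr (ne_bot_of_le_ne_bot hi1 (le_sSup ⟨hn _, hcard ▸ hc⟩))

end Cfsg.Agent.Coprime23
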