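import Cfsg.Agent.Lib.OddLocal.PiCore
import Cfsg.Agent.Lib.Basics.Cores
import Cfsg.Agent.Lib.Components.Fitting

/-!
Subnormal π-subgroups lie in the π-core.
-/

set_option autoImplicit false

namespace Cfsg.Agent.Coprime23

open Cfsg

universe u

variable (π : Set ℕ)

instance piCore_characteristic (G : Type u) [Group G] : (piCore π G).Characteristic := by
  rw [Subgroup.characteristic_iff_map_le]
  exact fun φ => Basics.sSup_map_le φ fun N hN => ⟨Basics.normal_map_equiv hN.1 φ, fun p hp hd =>
    hN.2 p hp (by rwa [Subgroup.card_map_of_injective φ.injective] at hd)⟩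

theorem subnormal_le_piCore {G : Type u} [Group G] [Finite G] {A : Subgroup G} (hA : A.IsSubnormal)
    (h : ∀ p : ℕ, p.Prime → p ∣ Nat.card A → p ∈ π) : A ≤ piCore π G := by
  induction hc : Nat.card G using Nat.strong_induction_on generalizing G with
  | _ n ih =>
    subst hc
    rcases hA.lt_normal with rfl | ⟨M, hMn, hAM, hlt⟩
    · exact le_sSup ⟨inferInstance, h⟩
    haveI := hMn
    have hlt' : Nat.card M < Nat.card G := lt_of_le_of_ne M.card_le_card_group
      fun he => hlt.ne (Subgroup.eq_top_of_card_eq M he)
    have h1 : A.subgroupOf M ≤ piCore π M := by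
      refine ih _ hlt' (hA.comap M.subtype) ?_ rfl
      intro p hp hd
      exact h p hp (by rwa [Nat.card_congr (Subgroup.subgroupOfEquivOfLe hAM).toEquiv] at hd)
    have h2 : (piCore π M).map M.subtype ≤ piCore π G := by
      refine le_sSup ⟨inferInstance, fun p hp hd => ?_⟩
      rw [Subgroup.card_map_of_injective M.subtype_injective] at hd
      exact OddLocal.piCore_primes π hp hd
    exact fun x hx => h2 ⟨⟨x, hAM hx⟩, h1 hx, rfl⟩

end Cfsg.Agent.Coprime23
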