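import Cfsg.Prelude.Def_Local

/-!
A criterion for `p`-length at most one.
-/

set_option autoImplicit false

namespace Cfsg.Agent.Coprime23

open Cfsg

universe u

lemma pLengthLE_one_of_series {G : Type u} [Group G] [Finite G] {p : ℕ} [Fact p.Prime]
    (A B : Subgroup G) [A.Normal] [B.Normal] (hA : (Nat.card A).Coprime p)
    (hAB : ∃ k, A.relIndex B = p ^ k) (hB : B.index.Coprime p) : PLengthLE p 1 G := by
  set s : ℕ → Subgroup G := fun n => (upperPSeries p G n).1 with hs
  haveI : ∀ n, (s n).Normal := fun n => (upperPSeries p G n).2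
  have e1 : (pPrimeCore p (G ⧸ s 0)).comap (QuotientGroup.mk' (s 0)) = s 1 := rfl
  have e2 : (pCore p (G ⧸ s 1)).comap (QuotientGroup.mk' (s 1)) = s 2 := rfl
  have e3 : (pPrimeCore p (G ⧸ s 2)).comap (QuotientGroup.mk' (s 2)) = s 3 := rfl
  have h1 : A ≤ s 1 := by
    rw [← e1, ← Subgroup.map_le_iff_le_comap]
    exact le_sSup ⟨Subgroup.Normal.map inferInstance _ (QuotientGroup.mk'_surjective _),
      hA.coprime_dvd_left (Subgroup.card_map_dvd _ _)⟩
  have h2 : B ≤ s 2 := by
    rw [← e2, ← Subgroup.map_le_iff_le_comap]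
    refine le_sSup ⟨Subgroup.Normal.map inferInstance _ (QuotientGroup.mk'_surjective _), ?_⟩
    obtain ⟨k, hk⟩ := hAB
    have hdvd : Nat.card (B.map (QuotientGroup.mk' (s 1))) ∣ p ^ k := by
      rw [← Subgroup.relIndex_ker, QuotientGroup.ker_mk', ← hk]
      exact Subgroup.relIndex_dvd_of_le_left B h1
    obtain ⟨j, -, hj⟩ := (Nat.dvd_prime_pow (Fact.out : p.Prime)).mp hdvd
    exact IsPGroup.of_card hj
  show s 3 = ⊤
  rw [← e3, ← Subgroup.comap_top (QuotientGroup.mk' (s 2))]
  congr 1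
  refine top_le_iff.mp (le_sSup ⟨inferInstance, ?_⟩)
  rw [Subgroup.card_top]
  exact hB.coprime_dvd_left (Subgroup.index_dvd_of_le h2)

end Cfsg.Agent.Coprime23
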