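import Mathlib

/-!
Schur–Zassenhaus conjugacy of complements to a solvable normal Hall subgroup.
-/

set_option autoImplicit false

namespace Cfsg.Agent.Coprime23

universe u

open Subgroup MulOpposite
open scoped Pointwise

lemma mem_stabilizer_transversal {G : Type u} [Group G] [Finite G] (N : Subgroup G) [N.Normal]
    [IsMulCommutative N] (K : Subgroup G) (hK : N.IsComplement' K) :
    ∃ α : N.QuotientDiff, K ≤ MulAction.stabilizer G α := by
  refine ⟨Quotient.mk'' (⟨(K : Set G), hK.symm⟩ : N.LeftTransversal), fun k hk => ?_⟩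
  refine congrArg Quotient.mk'' (Subtype.ext ?_)
  show op k⁻¹ • (K : Set G) = (K : Set G)
  exact op_smul_coe_set (K.inv_mem hk)

lemma exists_conj_of_abelian {G : Type u} [Group G] [Finite G] (N : Subgroup G) [N.Normal]
    [IsMulCommutative N] (hcop : (Nat.card N).Coprime N.index) (K₁ K₂ : Subgroup G)
    (h₁ : N.IsComplement' K₁) (h₂ : N.IsComplement' K₂) :
    ∃ n ∈ N, K₂ = K₁.map (MulAut.conj n).toMonoidHom := by
  obtain ⟨a, ha⟩ := mem_stabilizer_transversal N K₁ h₁
  obtain ⟨b, hb⟩ := mem_stabilizer_transversal N K₂ h₂
  have e : ∀ (K : Subgroup G) (c : N.QuotientDiff), N.IsComplement' K →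
      K ≤ MulAction.stabilizer G c → K = MulAction.stabilizer G c := by
    intro K c hK hle
    refine Subgroup.eq_of_le_of_card_ge hle ?_
    rw [← (isComplement'_stabilizer_of_coprime (α := c) hcop).symm.index_eq_card,
      hK.symm.index_eq_card]
  obtain ⟨n, hn⟩ := exists_smul_eq hcop a b
  refine ⟨n, n.2, ?_⟩
  rw [e K₁ a h₁ ha, e K₂ b h₂ hb, ← hn]
  exact MulAction.stabilizer_smul_eq_stabilizer_map_conj (n : G) a

lemma isComplement'_of_map_quotient {G : Type u} [Group G] [Finite G] (N K : Subgroup G)
    (D : Subgroup G) [D.Normal] (hDN : D ≤ N) (hcop : (Nat.card N).Coprime N.index)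
    (hK : N.IsComplement' K) :
    (N.map (QuotientGroup.mk' D)).IsComplement' (K.map (QuotientGroup.mk' D)) := by
  have hKc : Nat.card K = N.index := hK.symm.index_eq_card.symm
  have hidx : (N.map (QuotientGroup.mk' D)).index = N.index :=
    N.index_map_eq (QuotientGroup.mk'_surjective D) (by rwa [QuotientGroup.ker_mk'])
  have hinj : Set.InjOn (QuotientGroup.mk' D) (K : Set G) := by
    intro x hx y hy h
    have h' : x⁻¹ * y ∈ D := (QuotientGroup.eq).mp h
    have : x⁻¹ * y ∈ (⊥ : Subgroup G) :=
      hK.disjoint.le_bot ⟨hDN h', K.mul_mem (K.inv_mem hx) hy⟩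
    rwa [Subgroup.mem_bot, inv_mul_eq_one] at this
  have hKc' : Nat.card (K.map (QuotientGroup.mk' D)) = N.index := by
    rw [← hKc]
    exact Nat.card_image_of_injOn hinj
  refine isComplement'_of_coprime ?_ ?_
  · rw [hKc', ← hidx, Subgroup.card_mul_index]
  · rw [hKc']
    exact hcop.coprime_dvd_left (Subgroup.card_map_dvd _ _)

/-- complements to a solvable normal Hall subgroup are conjugate under that subgroup -/
theorem exists_conj_complement {G : Type u} [Group G] [Finite G] (N : Subgroup G) [N.Normal]
    [Group.IsSolvable N] (hcop : (Nat.card N).Coprime N.index) (K₁ K₂ : Subgroup G)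
    (h₁ : N.IsComplement' K₁) (h₂ : N.IsComplement' K₂) :
    ∃ n ∈ N, K₂ = K₁.map (MulAut.conj n).toMonoidHom := by
  induction hc : Nat.card G using Nat.strong_induction_on generalizing G with
  | _ m ih =>
    by_cases hab : ⁅N, N⁆ = ⊥
    · haveI : IsMulCommutative N := ⟨⟨fun a b => Subtype.ext
        ((Subgroup.mem_centralizer_iff.mp
          ((Subgroup.commutator_eq_bot_iff_le_centralizer.mp hab) b.2)) a a.2)⟩⟩
      exact exists_conj_of_abelian N hcop K₁ K₂ h₁ h₂
    · set D := ⁅N, N⁆ with hD
      have hNne : N ≠ ⊥ := fun h => hab (by subst h; exact Subgroup.commutator_bot_left _)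
      have hDN : D ≤ N := Subgroup.commutator_le_self N
      have hlt : D < N := by
        refine lt_of_le_of_ne hDN fun heq => ?_
        haveI : Nontrivial N := N.nontrivial_iff_ne_bot.mpr hNne
        refine (Group.IsSolvable.commutator_lt_top_of_nontrivial N).ne ?_
        apply Subgroup.map_injective N.subtype_injective
        rw [commutator_def, Subgroup.map_commutator, ← MonoidHom.range_eq_map, Subgroup.range_subtype]
        exact heq
      haveI : Group.IsSolvable (N.map (QuotientGroup.mk' D)) :=
        Group.isSolvable_of_surjective ((QuotientGroup.mk' D).subgroupMap_surjective N)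
      have hlt1 : Nat.card (G ⧸ D) < m := by
        rw [← hc, D.card_eq_card_quotient_mul_card_subgroup]
        exact lt_mul_of_one_lt_right Nat.card_pos ((Subgroup.one_lt_card_iff_ne_bot D).mpr hab)
      have hcop' : (Nat.card (N.map (QuotientGroup.mk' D))).Coprime
          (N.map (QuotientGroup.mk' D)).index :=
        (hcop.coprime_dvd_left (Subgroup.card_map_dvd _ _)).coprime_dvd_right
          (Subgroup.index_map_dvd _ (QuotientGroup.mk'_surjective D))
      haveI : (N.map (QuotientGroup.mk' D)).Normal :=
        Subgroup.Normal.map inferInstance _ (QuotientGroup.mk'_surjective D)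
      obtain ⟨n', hn', hn⟩ := ih _ hlt1 (N.map (QuotientGroup.mk' D)) hcop' _ _
        (isComplement'_of_map_quotient N K₁ D hDN hcop h₁)
        (isComplement'_of_map_quotient N K₂ D hDN hcop h₂) rfl
      obtain ⟨n, hnN, rfl⟩ := hn'
      set K₁' := K₁.map (MulAut.conj n).toMonoidHom with hK₁'
      have hcard : ∀ {K : Subgroup G}, N.IsComplement' K → Nat.card K = N.index :=
        fun hK => hK.symm.index_eq_card.symm
      have hc1 : Nat.card K₁' = N.index := by
        rw [← hcard h₁]
        exact Subgroup.card_map_of_injective (MulAut.conj n).injective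
      have himg : K₂.map (QuotientGroup.mk' D) = K₁'.map (QuotientGroup.mk' D) := by
        rw [hn, hK₁', Subgroup.map_map, Subgroup.map_map]
        congr 1
      set L := K₁' ⊔ D with hL
      have hK2L : K₂ ≤ L := by
        intro x hx
        have hx' : x ∈ (K₁'.map (QuotientGroup.mk' D)).comap (QuotientGroup.mk' D) :=
          himg ▸ Subgroup.mem_map_of_mem _ hx
        rwa [Subgroup.comap_map_eq, QuotientGroup.ker_mk'] at hx'
      have hidx : (D.subgroupOf L).index = N.index := by
        show D.relIndex L = N.index
        rw [hL, sup_comm, Subgroup.relIndex_sup_left]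
        show (D.subgroupOf K₁').index = N.index
        have : D.subgroupOf K₁' = ⊥ := by
          rw [Subgroup.subgroupOf_eq_bot]
          refine disjoint_iff.mpr (Subgroup.inf_eq_bot_of_coprime ?_)
          rw [hc1]
          exact hcop.coprime_dvd_left (Subgroup.card_dvd_of_le hDN)
        rw [this, Subgroup.index_bot, hc1]
      have hDcard : Nat.card (D.subgroupOf L) = Nat.card D :=
        Nat.card_congr (Subgroup.subgroupOfEquivOfLe le_sup_right).toEquiv
      have hLcard : Nat.card L = Nat.card D * N.index := by
        rw [← Subgroup.card_mul_index (D.subgroupOf L), hidx, hDcard]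
      have hlt2 : Nat.card L < m := by
        rw [hLcard, ← hc, ← N.card_mul_index]
        refine Nat.mul_lt_mul_of_pos_right ?_ (Nat.pos_of_ne_zero Subgroup.index_ne_zero_of_finite)
        exact Nat.lt_of_le_of_ne (Subgroup.card_le_of_le hDN)
          (fun h => hlt.ne (Subgroup.eq_of_le_of_card_ge hDN h.ge))
      have hcop2 : (Nat.card (D.subgroupOf L)).Coprime (D.subgroupOf L).index := by
        rw [hDcard, hidx]
        exact hcop.coprime_dvd_left (Subgroup.card_dvd_of_le hDN)
      have hcompl : ∀ K : Subgroup G, K ≤ L → Nat.card K = N.index →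
          (D.subgroupOf L).IsComplement' (K.subgroupOf L) := by
        intro K hKL hK
        have hKc : Nat.card (K.subgroupOf L) = N.index :=
          hK ▸ Nat.card_congr (Subgroup.subgroupOfEquivOfLe hKL).toEquiv
        refine isComplement'_of_coprime ?_ ?_
        · rw [hDcard, hKc, hLcard]
        · rw [hKc, ← hidx]; exact hcop2
      haveI : Group.IsSolvable D :=
        Group.isSolvable_of_isSolvable_injective (f := Subgroup.inclusion hDN) (Subgroup.inclusion_injective hDN)
      haveI : Group.IsSolvable (D.subgroupOf L) :=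
        Group.isSolvable_of_isSolvable_injective
          (f := (Subgroup.subgroupOfEquivOfLe (le_sup_right : D ≤ L)).toMonoidHom)
          (Subgroup.subgroupOfEquivOfLe (le_sup_right : D ≤ L)).injective
      obtain ⟨d, hd, hd'⟩ := ih _ hlt2 (D.subgroupOf L) hcop2 _ _
        (hcompl K₁' le_sup_left hc1) (hcompl K₂ hK2L (hcard h₂)) rfl
      refine ⟨(d : G) * n, N.mul_mem (hDN hd) hnN, ?_⟩
      have h3 := congrArg (Subgroup.map L.subtype) hd'
      rw [Subgroup.map_subgroupOf_eq_of_le hK2L, Subgroup.map_map] at h3
      have hcomp : L.subtype.comp (MulAut.conj d).toMonoidHom =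
          (MulAut.conj (d : G)).toMonoidHom.comp L.subtype := rfl
      rw [hcomp, ← Subgroup.map_map,
        Subgroup.map_subgroupOf_eq_of_le (show K₁' ≤ L from le_sup_left)] at h3
      rw [h3, hK₁', Subgroup.map_map]
      congr 1
      ext x
      simp [mul_assoc]

end Cfsg.Agent.Coprime23
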