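import Mathlib

/-!
Prime powers differing by one.
-/

set_option autoImplicit false

namespace Cfsg.Agent.Coprime23

open Finset

lemma odd_geom_eq_one {n k : ℕ} {x : ℤ} (hx : Odd x) (hn : Odd n) {c : ℤ}
    (h : c * (∑ i ∈ range n, x ^ i) = 2 ^ k) : (∑ i ∈ range n, x ^ i).natAbs = 1 := by
  set S := ∑ i ∈ range n, x ^ i with hS
  have hodd : Odd S := by
    rw [hS, Int.odd_iff, Finset.sum_int_mod,
      Finset.sum_congr rfl fun i _ => Int.odd_iff.mp (hx.pow (n := i))]
    simp only [sum_const, card_range, nsmul_eq_mul, mul_one]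
    exact_mod_cast Nat.odd_iff.mp hn
  have hdvd : S.natAbs ∣ 2 ^ k := by
    have h1 : S ∣ (2 : ℤ) ^ k := ⟨c, by rw [← h, mul_comm]⟩
    have h2 := Int.natAbs_dvd_natAbs.mpr h1
    rwa [Int.natAbs_pow] at h2
  exact Nat.eq_one_of_dvd_coprimes ((Int.natAbs_odd.mpr hodd).coprime_two_right.pow_right k)
    dvd_rfl hdvd

theorem prime_pow_eq_prime_pow_succ (p q a b : ℕ) (hp : p.Prime) (hq : q.Prime) (ha : 1 ≤ a)
    (hb : 1 ≤ b) (h : p ^ a = q ^ b + 1) :
    (p = 2 ∧ b = 1 ∧ a.Prime ∧ q + 1 = 2 ^ a) ∨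
      (q = 2 ∧ a = 1 ∧ (∃ m : ℕ, b = 2 ^ m) ∧ p = 2 ^ b + 1) ∨ (p ^ a = 9 ∧ q ^ b = 8) := by
  rcases hp.eq_two_or_odd' with rfl | hpo
  · -- `q` is odd
    left
    have hqo : Odd q := by
      rcases hq.eq_two_or_odd' with rfl | hqo
      · exfalso
        have h1 : Even ((2 : ℕ) ^ a) := Nat.even_pow.mpr ⟨even_two, by omega⟩
        rw [h] at h1
        exact (Nat.not_odd_iff_even.mpr h1) (Nat.even_pow.mpr ⟨even_two, by omega⟩).add_one
      · exact hqo
    have hb1 : b = 1 := by
      rcases Nat.even_or_odd b with ⟨c, rfl⟩ | hbo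
      · exfalso
        obtain ⟨d, hd⟩ := hqo.pow (n := c)
        have h2 : 2 ^ a = 4 * (d ^ 2 + d) + 2 := by rw [h, pow_add, hd]; ring
        rcases Nat.lt_or_ge a 2 with hlt | hge
        · have ha1 : a = 1 := by omega
          rw [ha1] at h
          have : 1 < q ^ (c + c) := Nat.one_lt_pow (by omega) hq.one_lt
          omega
        · obtain ⟨e, rfl⟩ := Nat.exists_eq_add_of_le hge
          rw [pow_add] at h2
          omega
      · by_contra hb1
        have h3 : ((q : ℤ) + 1) * (∑ i ∈ range b, (-(q : ℤ)) ^ i) = 2 ^ a := by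
          have h4 := geom_sum_mul (-(q : ℤ)) b
          rw [hbo.neg_pow] at h4
          have h5 : (2 : ℤ) ^ a = (q : ℤ) ^ b + 1 := by exact_mod_cast h
          linear_combination -h4 - h5
        have h6 := odd_geom_eq_one (Int.odd_coe_nat _ |>.mpr hqo).neg hbo h3
        have h7 := congrArg Int.natAbs h3
        rw [Int.natAbs_mul, h6, mul_one, Int.natAbs_pow] at h7
        simp only [Int.reduceAbs, show ((q : ℤ) + 1).natAbs = q + 1 by omega] at h7
        have h8 : q ^ b = q ^ 1 := by rw [pow_one]; omega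
        exact hb1 (Nat.pow_right_injective hq.two_le h8)
    subst hb1
    rw [pow_one] at h
    refine ⟨rfl, rfl, ?_, h.symm⟩
    have ha2 : a ≠ 1 := by
      rintro rfl
      have := hq.two_le
      omega
    exact (Nat.prime_of_pow_sub_one_prime ha2 (by rw [h, Nat.add_sub_cancel]; exact hq)).2
  · -- `q = 2`
    have hq2 : q = 2 := by
      by_contra hne
      have h1 : Odd (p ^ a) := hpo.pow
      rw [h] at h1
      exact (Nat.not_odd_iff_even.mpr ((hq.odd_of_ne_two hne).pow.add_odd odd_one)) h1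
    subst hq2
    rcases Nat.even_or_odd a with ⟨c, rfl⟩ | hao
    · right; right
      obtain ⟨d, hd⟩ := hpo.pow (n := c)
      have h2 : 2 ^ b = (2 * d) * (2 * d + 2) := by
        rw [pow_add, hd] at h
        nlinarith
      obtain ⟨i, -, hi⟩ := (Nat.dvd_prime_pow Nat.prime_two).mp (Dvd.intro _ h2.symm)
      obtain ⟨k, -, hk⟩ := (Nat.dvd_prime_pow Nat.prime_two).mp (Dvd.intro_left _ h2.symm)
      have hd0 : 0 < 2 * d := by
        rcases Nat.eq_zero_or_pos d with rfl | hd0
        · simp at h2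
        · omega
      have hd1 : d = 1 := by
        rcases Nat.lt_or_ge i 2 with h4 | h4
        · interval_cases i <;> simp at hi <;> omega
        · obtain ⟨e, rfl⟩ := Nat.exists_eq_add_of_le h4
          rcases Nat.lt_or_ge k 2 with h5 | h5
          · interval_cases k <;> simp at hk <;> omega
          · obtain ⟨e', rfl⟩ := Nat.exists_eq_add_of_le h5
            rw [pow_add] at hi hk
            omega
      subst hd1
      have h9 : p ^ (c + c) = 9 := by rw [pow_add, hd]; norm_num
      exact ⟨h9, by omega⟩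
    · right; left
      have ha1 : a = 1 := by
        by_contra ha1
        have h3 : ((p : ℤ) - 1) * (∑ i ∈ range a, (p : ℤ) ^ i) = 2 ^ b := by
          have h5 : (p : ℤ) ^ a = (2 : ℤ) ^ b + 1 := by exact_mod_cast h
          rw [mul_comm, geom_sum_mul, h5, add_sub_cancel_right]
        have h6 := odd_geom_eq_one (Int.odd_coe_nat _ |>.mpr hpo) hao h3
        have h7 := congrArg Int.natAbs h3
        rw [Int.natAbs_mul, h6, mul_one, Int.natAbs_pow] at h7
        simp only [Int.reduceAbs, show ((p : ℤ) - 1).natAbs = p - 1 by have := hp.two_le; omega] at h7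
        have h8 : p ^ a = p ^ 1 := by
          have := hp.two_le
          rw [pow_one]; omega
        exact ha1 (Nat.pow_right_injective hp.two_le h8)
      subst ha1
      rw [pow_one] at h
      exact ⟨rfl, rfl, Nat.pow_of_pow_add_prime one_lt_two (by omega) (h ▸ hp), h⟩

end Cfsg.Agent.Coprime23
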