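import Cfsg.Agent.Lib.Basics.Hall
import Cfsg.Agent.Lib.Basics.CoprimeAction
import Cfsg.Agent.Lib.Basics.SchurZassenhaus
import Cfsg.Agent.Lib.Basics.Cores
import Cfsg.Prelude.Def_OddOrderLocal

/-!
Invariant Hall subgroups under a coprime action on a solvable group.
-/

set_option autoImplicit false

universe u

namespace Cfsg.Agent.InvHall

open Cfsg Basics
open scoped Pointwise

variable {X : Type u} [Group X] [Finite X] {π : Set ℕ}

theorem card_mul_relIndex {H G : Subgroup X} (h : H ≤ G) :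
    Nat.card H * H.relIndex G = Nat.card G := by
  rw [← card_subgroupOf h, ← (H.subgroupOf G).card_mul_index]
  rfl

theorem coprime_of_pi {a b : ℕ} (ha : ∀ p : ℕ, p.Prime → p ∣ a → p ∈ π)
    (hb : ∀ p : ℕ, p.Prime → p ∈ π → ¬ p ∣ b) : a.Coprime b :=
  Nat.coprime_of_dvd fun p hp hpa hpb => hb p hp (ha p hp hpa) hpb

theorem card_eq {G H K : Subgroup X} (hH : IsPiHallOf π H G) (hK : IsPiHallOf π K G) :
    Nat.card H = Nat.card K := by
  have h1 := card_mul_relIndex hH.1
  have h2 := card_mul_relIndex hK.1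
  refine Nat.dvd_antisymm ((coprime_of_pi hH.2.1 hK.2.2).dvd_of_dvd_mul_right ?_)
    ((coprime_of_pi hK.2.1 hH.2.2).dvd_of_dvd_mul_right ?_)
  · rw [h2, ← h1]; exact Dvd.intro _ rfl
  · rw [h1, ← h2]; exact Dvd.intro _ rfl

theorem of_card_eq {G H K : Subgroup X} (hH : IsPiHallOf π H G) (hKG : K ≤ G)
    (hc : Nat.card K = Nat.card H) : IsPiHallOf π K G := by
  refine ⟨hKG, fun p hp hd => hH.2.1 p hp (hc ▸ hd), fun p hp hpi hd => hH.2.2 p hp hpi ?_⟩
  have h : Nat.card H * K.relIndex G = Nat.card H * H.relIndex G := by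
    rw [card_mul_relIndex hH.1, ← hc, card_mul_relIndex hKG]
  rwa [← Nat.eq_of_mul_eq_mul_left Nat.card_pos h]

theorem exists_isPiHallOf (π : Set ℕ) (G : Subgroup X) (hG : Group.IsSolvable G) :
    ∃ H : Subgroup X, IsPiHallOf π H G := by
  obtain ⟨H, -, hH⟩ := exists_hall_pi (G := G) π
  refine ⟨H.map G.subtype, Subgroup.map_subtype_le _, fun p hp hd => ?_, fun p hp hpi hd => ?_⟩
  · rw [Subgroup.card_map_of_injective G.subtype_injective] at hd
    exact (hH p hp (hd.trans H.card_subgroup_dvd_card)).1.mp hd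
  · have : (H.map G.subtype).relIndex G = H.index := by
      show ((H.map G.subtype).comap G.subtype).index = H.index
      rw [Subgroup.comap_map_eq_self_of_injective G.subtype_injective]
    rw [this] at hd
    exact (hH p hp (hd.trans H.index_dvd_card)).2.mp hd hpi

theorem isPiHallOf_conj {G H : Subgroup X} (hH : IsPiHallOf π H G) {g : X}
    (hg : g ∈ Subgroup.normalizer (G : Set X)) : IsPiHallOf π (MulAut.conj g • H) G :=
  of_card_eq hH ((Subgroup.pointwise_smul_le_pointwise_smul_iff.mpr hH.1).trans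
    (conj_smul_eq_self_iff.mpr hg).le) (card_conj_smul g H)

theorem exists_conj {G H K : Subgroup X} (hsolv : Group.IsSolvable G) (hH : IsPiHallOf π H G)
    (hK : IsPiHallOf π K G) : ∃ k ∈ G, MulAut.conj k • H = K := by
  have hc : (Nat.card (H.subgroupOf G)).Coprime (H.subgroupOf G).index := by
    rw [card_subgroupOf hH.1]
    exact coprime_of_pi hH.2.1 hH.2.2
  obtain ⟨k, hk⟩ := hall_conj (G := G) (K := K.subgroupOf G) hc
    (by rw [card_subgroupOf hH.1, card_subgroupOf hK.1, card_eq hH hK])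
  refine ⟨k, k.2, ?_⟩
  have := congrArg (Subgroup.map G.subtype) hk
  rwa [map_conj_smul, Subgroup.map_subgroupOf_eq_of_le hH.1,
    Subgroup.map_subgroupOf_eq_of_le hK.1] at this

theorem invariant_hall (π : Set ℕ) (A G : Subgroup X) (hAG : A ≤ Subgroup.normalizer (G : Set X))
    (hcop : (Nat.card A).Coprime (Nat.card G)) (hsolv : Group.IsSolvable G) :
    (∃ H : Subgroup X, IsPiHallOf π H G ∧ A ≤ Subgroup.normalizer (H : Set X)) ∧
    ∀ H₁ H₂ : Subgroup X, IsPiHallOf π H₁ G → A ≤ Subgroup.normalizer (H₁ : Set X) →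
      IsPiHallOf π H₂ G → A ≤ Subgroup.normalizer (H₂ : Set X) →
      ∃ c ∈ G ⊓ Subgroup.centralizer (A : Set X), MulAut.conj c • H₁ = H₂ := by
  have h := glauberman_conj A G hAG hcop (Or.inr hsolv) {S | IsPiHallOf π S G}
    (exists_isPiHallOf π G hsolv) (fun a ha S hS => isPiHallOf_conj hS (hAG ha))
    (fun k hk S hS => isPiHallOf_conj hS (Subgroup.le_normalizer hk))
    (fun S hS T hT => exists_conj hsolv hS hT)
  exact ⟨h.1, fun H₁ H₂ h₁ a₁ h₂ a₂ => h.2 H₁ h₁ H₂ h₂ a₁ a₂⟩

omit [Finite X] in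
theorem le_normalizer_map_char {A G : Subgroup X} (hAG : A ≤ Subgroup.normalizer (G : Set X))
    (K : Subgroup G) [hK : K.Characteristic] :
    A ≤ Subgroup.normalizer ((K.map G.subtype : Subgroup X) : Set X) := by
  intro a ha
  have key : ∀ b : X, b ∈ Subgroup.normalizer (G : Set X) → ∀ y ∈ K.map G.subtype,
      b * y * b⁻¹ ∈ K.map G.subtype := by
    rintro b hb _ ⟨y, hy, rfl⟩
    let e : G ≃* G :=
      { toFun := fun z => ⟨b * (z : X) * b⁻¹, (Subgroup.mem_normalizer_iff.mp hb _).mp z.2⟩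
        invFun := fun z => ⟨b⁻¹ * (z : X) * b, by
          have := (Subgroup.mem_normalizer_iff.mp (inv_mem hb) _).mp z.2
          rwa [inv_inv] at this⟩
        left_inv := fun z => Subtype.ext (by group)
        right_inv := fun z => Subtype.ext (by group)
        map_mul' := fun y z => Subtype.ext (by simp only [Subgroup.coe_mul]; group) }
    refine ⟨e y, ?_, rfl⟩
    have := Subgroup.characteristic_iff_comap_eq.mp hK e
    show y ∈ K.comap e.toMonoidHom
    rw [this]
    exact hy
  rw [Subgroup.mem_normalizer_iff]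
  refine fun y => ⟨key a (hAG ha) y, fun h => ?_⟩
  have := key a⁻¹ (inv_mem (hAG ha)) _ h
  simpa [mul_assoc] using this

omit [Finite X] in
theorem le_normalizer_subgroupOf {A H K : Subgroup X} (hAH : A ≤ Subgroup.normalizer (H : Set X)) :
    A.subgroupOf K ≤ Subgroup.normalizer ((H.subgroupOf K : Subgroup K) : Set K) := by
  intro a ha
  rw [Subgroup.mem_normalizer_iff]
  intro y
  exact Subgroup.mem_normalizer_iff.mp (hAH ha) (y : X)

theorem main (k : ℕ) : ∀ (X : Type u) [Group X] [Finite X] (A G U : Subgroup X), Nat.card G = k →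
    A ≤ Subgroup.normalizer (G : Set X) → (Nat.card A).Coprime (Nat.card G) →
    Group.IsSolvable G → U ≤ G → A ≤ Subgroup.normalizer (U : Set X) →
    (∀ p : ℕ, p.Prime → p ∣ Nat.card U → p ∈ π) →
    ∃ H : Subgroup X, IsPiHallOf π H G ∧ A ≤ Subgroup.normalizer (H : Set X) ∧ U ≤ H := by
  induction k using Nat.strong_induction_on with
  | _ k ih =>
    intro X _ _ A G U hk hAG hcop hsolv hUG hAU hU
    subst hk
    rcases eq_or_ne G ⊥ with hG | hG
    · obtain ⟨⟨H, hH, hAH⟩, -⟩ := invariant_hall π A G hAG hcop hsolv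
      exact ⟨H, hH, hAH, hUG.trans (hG ▸ bot_le)⟩
    haveI : Nontrivial G := G.nontrivial_iff_ne_bot.mpr hG
    haveI := hsolv
    obtain ⟨r, E, hr, hEn, hE0, hEr⟩ := exists_normal_pGroup (G := G)
    haveI := Fact.mk hr
    set N : Subgroup X := (pCore r G).map G.subtype with hN
    have hNG : N ≤ G := Subgroup.map_subtype_le _
    have hNr : IsPGroup r N := (pCore_isPGroup r).map G.subtype
    have hN0 : N ≠ ⊥ := by
      rw [hN, Ne, Subgroup.map_eq_bot_iff_of_injective _ G.subtype_injective]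
      haveI := hEn
      exact fun h => hE0 (le_bot_iff.mp (h ▸ le_pCore hEr))
    have hGN : G ≤ Subgroup.normalizer (N : Set X) :=
      le_normalizer_map_char Subgroup.le_normalizer _
    have hAN : A ≤ Subgroup.normalizer (N : Set X) := le_normalizer_map_char hAG _
    set M := Subgroup.normalizer (N : Set X) with hM
    have hNM : N ≤ M := hNG.trans hGN
    haveI hN'n : (N.subgroupOf M).Normal := Subgroup.normal_in_normalizer
    set q := QuotientGroup.mk' (N.subgroupOf M) with hq
    set G' := (G.subgroupOf M).map q with hG'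
    have hsubN : N.subgroupOf M ≤ G.subgroupOf M := Subgroup.comap_mono hNG
    have hcG : Nat.card G' * Nat.card N = Nat.card G := by
      have h := card_map_mk'_mul (N.subgroupOf M) (G.subgroupOf M)
      rwa [inf_eq_right.mpr hsubN, card_subgroupOf hNM, card_subgroupOf hGN] at h
    have hlt : Nat.card G' < Nat.card G := by
      rw [← hcG]
      exact lt_mul_of_one_lt_right Nat.card_pos ((Subgroup.one_lt_card_iff_ne_bot N).mpr hN0)
    have hA₁ : (A.subgroupOf M).map q ≤ Subgroup.normalizer (G' : Set _) :=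
      (Subgroup.map_mono (le_normalizer_subgroupOf hAG)).trans (Subgroup.le_normalizer_map q)
    have hA₂ : (A.subgroupOf M).map q ≤
        Subgroup.normalizer (((U.subgroupOf M).map q : Subgroup _) : Set _) :=
      (Subgroup.map_mono (le_normalizer_subgroupOf hAU)).trans (Subgroup.le_normalizer_map q)
    have hcop' : (Nat.card ((A.subgroupOf M).map q)).Coprime (Nat.card G') :=
      Nat.Coprime.coprime_dvd_left ((Subgroup.card_map_dvd _ _).trans
        (card_subgroupOf hAN).dvd) (Nat.Coprime.coprime_dvd_right (Dvd.intro _ hcG) hcop)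
    obtain ⟨H', hH', hAH', hUH'⟩ := ih _ hlt (↥M ⧸ N.subgroupOf M)
      ((A.subgroupOf M).map q) G' ((U.subgroupOf M).map q) rfl hA₁ hcop'
      (isSolvable_map q (isSolvable_subgroupOf hGN hsolv))
      (Subgroup.map_mono (Subgroup.comap_mono hUG)) hA₂
      (fun p hp hd => hU p hp ((hd.trans (Subgroup.card_map_dvd _ _)).trans
        (card_subgroupOf (hUG.trans hGN)).dvd))
    set L' := H'.comap q with hL'
    have hNL' : N.subgroupOf M ≤ L' := fun x hx => by
      show q x ∈ H'
      rw [show q x = 1 from (QuotientGroup.eq_one_iff x).mpr hx]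
      exact one_mem _
    have hL'G : L' ≤ G.subgroupOf M := by
      refine (Subgroup.comap_mono hH'.1).trans ?_
      rw [hG', Subgroup.comap_map_eq, hq, QuotientGroup.ker_mk']
      exact sup_le le_rfl hsubN
    set L := L'.map M.subtype with hL
    have hLG : L ≤ G := by
      rintro _ ⟨y, hy, rfl⟩
      exact hL'G hy
    have hUL : U ≤ L := fun u hu =>
      ⟨⟨u, hGN (hUG hu)⟩, hUH' ⟨⟨u, hGN (hUG hu)⟩, hu, rfl⟩, rfl⟩
    have hNL : N ≤ L := fun x hx => ⟨⟨x, hNM hx⟩, hNL' hx, rfl⟩
    have hAL : A ≤ Subgroup.normalizer (L : Set X) := by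
      intro a ha
      refine (Subgroup.le_normalizer_map M.subtype)
        (?_ : a ∈ (Subgroup.normalizer (L' : Set M)).map M.subtype)
      refine ⟨⟨a, hAN ha⟩, ?_, rfl⟩
      exact Subgroup.le_normalizer_comap q (show q ⟨a, hAN ha⟩ ∈ Subgroup.normalizer (H' : Set _)
        from hAH' ⟨⟨a, hAN ha⟩, ha, rfl⟩)
    have hcL : Nat.card L = Nat.card N * Nat.card H' := by
      rw [hL, Subgroup.card_map_of_injective M.subtype_injective, hL', hq, card_comap_mk',
        card_subgroupOf hNM]
    have hLrel : L.relIndex G = H'.relIndex G' := by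
      have h := card_mul_relIndex hLG
      rw [hcL, ← hcG, ← card_mul_relIndex hH'.1, mul_comm (_ * _) (Nat.card N), mul_assoc] at h
      exact Nat.eq_of_mul_eq_mul_left Nat.card_pos (Nat.eq_of_mul_eq_mul_left Nat.card_pos h)
    rcases (Subgroup.card_le_of_le hLG).lt_or_eq with hltL | heqL
    · obtain ⟨H, hH, hAH, hUH⟩ := ih _ hltL X A L U rfl hAL
        (hcop.coprime_dvd_right (Subgroup.card_dvd_of_le hLG)) (isSolvable_of_le hLG hsolv)
        hUL hAU hU
      refine ⟨H, ⟨hH.1.trans hLG, hH.2.1, fun p hp hpi hd => ?_⟩, hAH, hUH⟩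
      rw [← Subgroup.relIndex_mul_relIndex H L G hH.1 hLG, hLrel] at hd
      rcases hp.dvd_mul.mp hd with h | h
      · exact hH.2.2 p hp hpi h
      · exact hH'.2.2 p hp hpi h
    -- now `G / N` is a `π`-group
    have hGpi : Nat.card G = Nat.card N * Nat.card H' := by rw [← heqL, hcL]
    by_cases hrpi : r ∈ π
    · refine ⟨G, ⟨le_rfl, fun p hp hd => ?_, fun p hp _ hd => ?_⟩, hAG, hUG⟩
      · rw [hGpi] at hd
        rcases hp.dvd_mul.mp hd with h | h
        · obtain ⟨j, hj⟩ := IsPGroup.iff_card.mp hNr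
          rw [hj] at h
          rwa [(Nat.prime_dvd_prime_iff_eq hp hr).mp (hp.dvd_of_dvd_pow h)]
        · exact hH'.2.1 p hp h
      · rw [Subgroup.relIndex_self] at hd
        exact hp.not_dvd_one hd
    obtain ⟨⟨H, hH, hAH⟩, -⟩ := invariant_hall π A G hAG hcop hsolv
    obtain ⟨j, hj⟩ := IsPGroup.iff_card.mp hNr
    have hcopN : ∀ S : Subgroup X, (∀ p : ℕ, p.Prime → p ∣ Nat.card S → p ∈ π) →
        (Nat.card N).Coprime (Nat.card S) := fun S hS => by
      rw [hj]
      refine Nat.Coprime.pow_left j (hr.coprime_iff_not_dvd.mpr fun h => hrpi (hS r hr h))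
    have hcH : Nat.card H = Nat.card H' := by
      have h := card_mul_relIndex hH.1
      refine Nat.dvd_antisymm ((hcopN H hH.2.1).symm.dvd_of_dvd_mul_left ?_)
        ((coprime_of_pi hH'.2.1 hH.2.2).dvd_of_dvd_mul_right ?_)
      · rw [← hGpi, ← h]; exact Dvd.intro _ rfl
      · rw [h, hGpi]; exact Dvd.intro_left _ rfl
    have hsupH : N ⊔ H = G := by
      refine Subgroup.eq_of_le_of_card_ge (sup_le hNG hH.1) (le_of_eq ?_)
      rw [card_sup_of_coprime (hH.1.trans hGN) (hcopN H hH.2.1), hcH, hGpi]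
    set T := (N ⊔ U) ⊓ H with hT
    have hTpi : ∀ p : ℕ, p.Prime → p ∣ Nat.card T → p ∈ π := fun p hp hd =>
      hH.2.1 p hp (hd.trans (Subgroup.card_dvd_of_le inf_le_right))
    have hNTle : N ⊔ T = N ⊔ U := by
      refine le_antisymm (sup_le le_sup_left inf_le_left) fun x hx => ?_
      have hxG : x ∈ N ⊔ H := hsupH.symm ▸ (sup_le hNG hUG) hx
      obtain ⟨m, hm, h, hh, rfl⟩ := (mem_sup_of_le_normalizer (hH.1.trans hGN)).mp hxG
      refine Subgroup.mul_mem_sup hm ⟨?_, hh⟩
      have := mul_mem (Subgroup.mem_sup_left (T := U) (inv_mem hm)) hx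
      rwa [inv_mul_cancel_left] at this
    have hcT : Nat.card T = Nat.card U := by
      have h1 := card_sup_of_coprime (N := N) (H := T) (inf_le_right.trans (hH.1.trans hGN))
        (hcopN T hTpi)
      have h2 := card_sup_of_coprime (N := N) (H := U) (hUG.trans hGN) (hcopN U hU)
      rw [hNTle, h2] at h1
      exact (Nat.eq_of_mul_eq_mul_left Nat.card_pos h1).symm
    have hnNU : N ≤ Subgroup.normalizer ((N ⊔ U : Subgroup X) : Set X) :=
      le_sup_left.trans Subgroup.le_normalizer
    have haNU : ∀ a ∈ A, MulAut.conj a • (N ⊔ U) = N ⊔ U := fun a ha => by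
      rw [Subgroup.smul_sup, conj_smul_eq_self_iff.mpr (hAN ha),
        conj_smul_eq_self_iff.mpr (hAU ha)]
    have hg := (glauberman_conj A N hAN (hcop.coprime_dvd_right (Subgroup.card_dvd_of_le hNG))
      (Or.inr (haveI := hNr.isNilpotent; inferInstance))
      {S | S ≤ N ⊔ U ∧ Nat.card S = Nat.card U} ⟨U, le_sup_right, rfl⟩
      (fun a ha S hS => ⟨(Subgroup.pointwise_smul_le_pointwise_smul_iff.mpr hS.1).trans
        (haNU a ha).le, (card_conj_smul a S).trans hS.2⟩)
      (fun n hn S hS => ⟨(Subgroup.pointwise_smul_le_pointwise_smul_iff.mpr hS.1).trans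
        (conj_smul_eq_self_iff.mpr (hnNU hn)).le, (card_conj_smul n S).trans hS.2⟩)
      (fun S hS T hT => by
        have hSN : S ≤ Subgroup.normalizer (N : Set X) :=
          hS.1.trans (sup_le Subgroup.le_normalizer (hUG.trans hGN))
        have hcS : (Nat.card N).Coprime (Nat.card S) := by rw [hS.2]; exact hcopN U hU
        have hsup : N ⊔ S = N ⊔ U := by
          refine Subgroup.eq_of_le_of_card_ge (sup_le le_sup_left hS.1) (le_of_eq ?_)
          rw [card_sup_of_coprime hSN hcS, card_sup_of_coprime (hUG.trans hGN) (hcopN U hU), hS.2]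
        exact exists_conj_eq_of_coprime N S T hSN hcS (hsup ▸ hT.1) (hT.2.trans hS.2.symm)
          (Or.inl (haveI := hNr.isNilpotent; inferInstance)))).2
    obtain ⟨c, hc, hcTU⟩ := hg T ⟨inf_le_left, hcT⟩ U ⟨le_sup_right, rfl⟩
      (fun a ha => by
        rw [← conj_smul_eq_self_iff, Subgroup.smul_inf, haNU a ha,
          conj_smul_eq_self_iff.mpr (hAH ha)]) hAU
    refine ⟨MulAut.conj c • H, isPiHallOf_conj hH (Subgroup.le_normalizer (hNG hc.1)),
      fun a ha => ?_, ?_⟩
    · rw [← conj_smul_eq_self_iff, conj_smul_conj_smul,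
        Subgroup.mem_centralizer_iff.mp hc.2 a ha, ← conj_smul_conj_smul,
        conj_smul_eq_self_iff.mpr (hAH ha)]
    · rw [← hcTU]
      exact Subgroup.pointwise_smul_le_pointwise_smul_iff.mpr inf_le_right

end Cfsg.Agent.InvHall
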