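import Cfsg.Agent.Lib.Basics.Tools
import Cfsg.Agent.Lib.Basics.Cores
import Cfsg.Agent.Lib.Basics.CoprimeAction
import Cfsg.Prelude.Def_LocalStructure
import Cfsg.Prelude.Def_Transfer

/-!
Minimal non-`p`-closed groups with a proper nontrivial normal subgroup.
-/

set_option autoImplicit false

namespace Cfsg.Agent.MinPClosed

open Cfsg

variable {G : Type*} [Group G]

/-- An irreducible faithful action of a cyclic group of order `p` on an elementary abelian
`q`-group: the order of the latter is `q ^ ord_p q`. -/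
theorem card_eq_pow_orderOf [Finite G] {p q : ℕ} [Fact p.Prime] (hq : q.Prime) (hpq : q ≠ p)
    (A : Subgroup G) [A.Normal] (hA : IsElementaryAbelian q A) (x : G) (hxp : x ^ p = 1)
    (hxc : ∃ a ∈ A, x * a * x⁻¹ ≠ a)
    (hmin : ∀ B : Subgroup G, B ≤ A → (∀ b ∈ B, x * b * x⁻¹ ∈ B) → B = ⊥ ∨ B = A) :
    Nat.card A = q ^ orderOf (q : ZMod p) := by
  haveI := Fact.mk hq
  haveI := hA.1
  letI : CommGroup A :=
    { (inferInstance : Group A) with mul_comm := fun a b => hA.1.is_comm.comm a b }
  obtain ⟨a₀, ha₀, hne₀⟩ := hxc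
  let M := Additive A
  let f : AddMonoid.End M := MonoidHom.toAdditive (MulAut.conjNormal x : MulAut A).toMonoidHom
  have hfap : ∀ m : M, ((Additive.toMul (f m) : A) : G) = x * (Additive.toMul m : A) * x⁻¹ :=
    fun m => MulAut.conjNormal_apply x _
  -- powers of `f`
  have hfpow : ∀ (n : ℕ) (m : M),
      ((Additive.toMul ((f ^ n) m) : A) : G) = x ^ n * (Additive.toMul m : A) * (x ^ n)⁻¹ := by
    intro n
    induction n with
    | zero =>
      intro m
      rw [pow_zero, pow_zero, AddMonoid.End.coe_one, id_eq, one_mul, inv_one, mul_one]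
    | succ n ih =>
      intro m
      rw [pow_succ', AddMonoid.End.coe_mul, Function.comp_apply, hfap, ih, pow_succ']
      group
  have hfp : f ^ p = 1 := by
    refine DFunLike.ext _ _ fun m => ?_
    apply Additive.toMul.injective
    apply Subtype.ext
    rw [hfpow p m, hxp, one_mul, inv_one, mul_one]
    rfl
  set R : Subring (AddMonoid.End M) := Subring.closure {f} with hR
  have hfR : f ∈ R := Subring.subset_closure rfl
  have hcf : R ≤ Subring.centralizer {f} := Subring.closure_le.mpr fun g hg => by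
    rw [Set.mem_singleton_iff] at hg
    subst hg
    exact Subring.mem_centralizer_iff.mpr fun g hg => by
      rw [Set.mem_singleton_iff] at hg
      subst hg
      rfl
  have hcR : R ≤ Subring.centralizer (R : Set (AddMonoid.End M)) :=
    Subring.closure_le.mpr fun g hg => by
      rw [Set.mem_singleton_iff] at hg
      subst hg
      exact Subring.mem_centralizer_iff.mpr fun r hr =>
        (Subring.mem_centralizer_iff.mp (hcf hr) _ rfl).symm
  have hcomm : ∀ r : R, ∀ m : M, (r : AddMonoid.End M) (f m) = f ((r : AddMonoid.End M) m) := by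
    intro r m
    exact (DFunLike.congr_fun (Subring.mem_centralizer_iff.mp (hcf r.2) f rfl) m).symm
  letI : CommRing R :=
    { (inferInstance : Ring R) with
      mul_comm := fun r s => Subtype.ext (Subring.mem_centralizer_iff.mp (hcR s.2) r r.2) }
  -- nonzero elements of `R` are injective
  have hinj : ∀ r : R, r ≠ 0 → ∀ m : M, (r : AddMonoid.End M) m = 0 → m = 0 := by
    intro r hr
    let B : Subgroup G :=
      { carrier := {g | ∃ h : g ∈ A, (r : AddMonoid.End M) (Additive.ofMul ⟨g, h⟩) = 0}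
        one_mem' := ⟨one_mem A, map_zero _⟩
        mul_mem' := by
          rintro a b ⟨ha, ha'⟩ ⟨hb, hb'⟩
          refine ⟨mul_mem ha hb, ?_⟩
          have : (Additive.ofMul (⟨a * b, mul_mem ha hb⟩ : A) : M) =
              Additive.ofMul (⟨a, ha⟩ : A) + Additive.ofMul (⟨b, hb⟩ : A) := rfl
          rw [this]
          exact (map_add (r : AddMonoid.End M) _ _).trans (by rw [ha', hb', add_zero])
        inv_mem' := by
          rintro a ⟨ha, ha'⟩
          refine ⟨inv_mem ha, ?_⟩
          have : (Additive.ofMul (⟨a⁻¹, inv_mem ha⟩ : A) : M) =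
              -Additive.ofMul (⟨a, ha⟩ : A) := rfl
          rw [this]
          exact (map_neg (r : AddMonoid.End M) _).trans (by rw [ha', neg_zero]) }
    have hB : B = ⊥ ∨ B = A := by
      refine hmin B (fun g hg => hg.1) ?_
      rintro b ⟨hb, hb'⟩
      refine ⟨‹A.Normal›.conj_mem b hb x, ?_⟩
      have e : (Additive.ofMul (⟨x * b * x⁻¹, ‹A.Normal›.conj_mem b hb x⟩ : A) : M) =
          f (Additive.ofMul (⟨b, hb⟩ : A)) := by
        apply Additive.toMul.injective
        apply Subtype.ext
        exact (hfap (Additive.ofMul (⟨b, hb⟩ : A))).symm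
      rw [e, hcomm r, hb', map_zero]
    intro m hm
    rcases hB with hB | hB
    · have hmB : ((Additive.toMul m : A) : G) ∈ B := ⟨(Additive.toMul m).2, hm⟩
      rw [hB, Subgroup.mem_bot] at hmB
      exact Additive.toMul.injective (Subtype.ext hmB)
    · exfalso
      apply hr
      apply Subtype.ext
      apply AddMonoidHom.ext
      intro m'
      have : ((Additive.toMul m' : A) : G) ∈ B := hB.symm ▸ (Additive.toMul m').2
      exact this.2
  have hd1 : a₀ ≠ 1 := by
    rintro rfl
    exact hne₀ (by group)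
  let m₀ : M := Additive.ofMul (⟨a₀, ha₀⟩ : A)
  have hm₀ : m₀ ≠ 0 := fun h => hd1 (congrArg (fun m : M => ((Additive.toMul m : A) : G)) h)
  let ev : R → M := fun r => (r : AddMonoid.End M) m₀
  have hevinj : Function.Injective ev := by
    intro r s h
    by_contra hne
    apply hm₀
    apply hinj (r - s) (sub_ne_zero.mpr hne)
    show (r : AddMonoid.End M) m₀ - (s : AddMonoid.End M) m₀ = 0
    rw [sub_eq_zero]
    exact h
  have hevsurj : Function.Surjective ev := by
    let B : Subgroup G :=
      { carrier := {g | ∃ r : R, ((Additive.toMul (ev r) : A) : G) = g}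
        one_mem' := ⟨0, rfl⟩
        mul_mem' := by
          rintro a b ⟨r, rfl⟩ ⟨s, rfl⟩
          exact ⟨r + s, rfl⟩
        inv_mem' := by
          rintro a ⟨r, rfl⟩
          exact ⟨-r, rfl⟩ }
    have hB : B = A := by
      refine ((hmin B ?_ ?_).resolve_left ?_)
      · rintro g ⟨r, rfl⟩
        exact (Additive.toMul (ev r)).2
      · rintro b ⟨r, rfl⟩
        exact ⟨⟨f, hfR⟩ * r, hfap (ev r)⟩
      · intro hbot
        have : a₀ ∈ B := ⟨1, rfl⟩
        rw [hbot, Subgroup.mem_bot] at this
        exact hd1 this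
    intro m
    have : ((Additive.toMul m : A) : G) ∈ B := hB.symm ▸ (Additive.toMul m).2
    obtain ⟨r, hr⟩ := this
    exact ⟨r, Additive.toMul.injective (Subtype.ext hr)⟩
  have hcardR : Nat.card R = Nat.card A := Nat.card_eq_of_bijective ev ⟨hevinj, hevsurj⟩
  haveI : Finite R := Finite.of_injective ev hevinj
  haveI : Nontrivial R := ⟨1, 0, fun h => hm₀ (congrArg (fun r : R => ev r) h)⟩
  haveI : IsDomain R := by
    haveI : NoZeroDivisors R := ⟨fun {r s} h => by
      by_contra hc
      push_neg at hc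
      apply hm₀
      apply hinj s hc.2
      apply hinj r hc.1
      exact congrArg (fun t : R => ev t) h⟩
    exact NoZeroDivisors.to_isDomain R
  have hq0 : (q : R) = 0 := by
    apply hevinj
    show ((q : R) : AddMonoid.End M) m₀ = 0
    rw [Subring.coe_natCast, AddMonoid.End.natCast_apply]
    apply Additive.toMul.injective
    apply Subtype.ext
    exact hA.2 a₀ ha₀
  haveI : CharP R q := (CharP.charP_iff_prime_eq_zero hq).mpr hq0
  haveI : ExpChar R q := ExpChar.prime hq
  set e := orderOf (q : ZMod p) with he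
  have hqp : (q : ZMod p) ≠ 0 := by
    rw [Ne, CharP.cast_eq_zero_iff (ZMod p) p]
    intro h
    exact hpq ((Nat.prime_dvd_prime_iff_eq Fact.out hq).mp h).symm
  have he0 : 0 < e := by
    rw [he, orderOf_pos_iff]
    exact isOfFinOrder_iff_pow_eq_one.mpr
      ⟨p - 1, Nat.sub_pos_of_lt (Fact.out : p.Prime).one_lt, ZMod.pow_card_sub_one_eq_one hqp⟩
  have hqe : q ^ e ≡ 1 [MOD p] := by
    rw [← ZMod.natCast_eq_natCast_iff, Nat.cast_pow, Nat.cast_one]
    exact pow_orderOf_eq_one _
  have hfix : ∀ r : R, r ^ (q ^ e) = r := by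
    intro r
    let S' : Subring (AddMonoid.End M) :=
      (RingHom.eqLocus (iterateFrobenius R q e) (RingHom.id R)).map R.subtype
    have hle : R ≤ S' := Subring.closure_le.mpr fun g hg => by
      rw [Set.mem_singleton_iff] at hg
      subst hg
      refine ⟨⟨f, hfR⟩, ?_, rfl⟩
      show iterateFrobenius R q e ⟨f, hfR⟩ = ⟨f, hfR⟩
      rw [iterateFrobenius_def]
      apply Subtype.ext
      rw [SubmonoidClass.coe_pow]
      show f ^ q ^ e = f
      have h1 : q ^ e % p = 1 :=
        Eq.trans hqe (Nat.mod_eq_of_lt (Fact.out : p.Prime).one_lt)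
      rw [← Nat.div_add_mod (q ^ e) p, h1, pow_add, pow_mul, hfp, one_pow, one_mul, pow_one]
    obtain ⟨r', hr', hval⟩ := hle r.2
    have : r' = r := Subtype.ext hval
    rw [← this]
    exact (iterateFrobenius_def q e r').symm.trans hr'
  have hle : Nat.card R ≤ q ^ e := by
    classical
    haveI := Fintype.ofFinite R
    let P : Polynomial R := Polynomial.X ^ (q ^ e) - Polynomial.X
    have h1 : 1 < q ^ e := Nat.one_lt_pow he0.ne' hq.one_lt
    have hdeg : P.natDegree = q ^ e := by
      show (Polynomial.X ^ (q ^ e) - Polynomial.X : Polynomial R).natDegree = q ^ e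
      rw [Polynomial.natDegree_sub_eq_left_of_natDegree_lt] <;>
        rw [Polynomial.natDegree_X_pow]
      rwa [Polynomial.natDegree_X]
    have hP0 : P ≠ 0 := fun h => by
      rw [h, Polynomial.natDegree_zero] at hdeg
      omega
    rw [Nat.card_eq_fintype_card, ← hdeg]
    refine le_trans ?_ (Polynomial.card_roots' P)
    refine le_trans ?_ (Multiset.toFinset_card_le _)
    refine Finset.card_le_card (fun r _ => ?_)
    rw [Multiset.mem_toFinset, Polynomial.mem_roots hP0]
    show Polynomial.eval r (Polynomial.X ^ (q ^ e) - Polynomial.X) = 0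
    rw [Polynomial.eval_sub, Polynomial.eval_pow, Polynomial.eval_X, hfix r, sub_self]
  -- fixed point free, so `e` divides the dimension
  have hpgA : IsPGroup q A := fun a => ⟨1, by rw [pow_one]; exact Subtype.ext (hA.2 a a.2)⟩
  obtain ⟨d, hd⟩ := IsPGroup.iff_card.mp hpgA
  let φ : Subgroup.zpowers x →* MulAut A :=
    (MulAut.conjNormal : G →* MulAut A).comp (Subgroup.zpowers x).subtype
  letI : MulAction (Subgroup.zpowers x) A := MulAction.compHom A φ
  have hPx : IsPGroup p (Subgroup.zpowers x) := by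
    intro y
    obtain ⟨k, hk⟩ := Subgroup.mem_zpowers_iff.mp y.2
    refine ⟨1, Subtype.ext ?_⟩
    rw [pow_one, SubmonoidClass.coe_pow, ← hk, OneMemClass.coe_one, ← zpow_natCast, ← zpow_mul,
      mul_comm, zpow_mul, zpow_natCast, hxp, one_zpow]
  have hmod := hPx.card_modEq_card_fixedPoints A
  have hfp1 : Nat.card (MulAction.fixedPoints (Subgroup.zpowers x) A) = 1 := by
    rw [Nat.card_eq_one_iff_unique]
    let C := A ⊓ Subgroup.centralizer {x}
    have hCbot : C = ⊥ := by
      refine (hmin C inf_le_left fun b hb => ?_).resolve_right fun hC => ?_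
      · have := Subgroup.mem_centralizer_singleton_iff.mp hb.2
        rwa [← this, mul_inv_cancel_right]
      · have : a₀ ∈ C := hC.symm ▸ ha₀
        apply hne₀
        rw [← Subgroup.mem_centralizer_singleton_iff.mp this.2, mul_inv_cancel_right]
    have h1 : ∀ y : A, y ∈ MulAction.fixedPoints (Subgroup.zpowers x) A → y = 1 := by
      intro y hy
      have h := congrArg Subtype.val (hy ⟨x, Subgroup.mem_zpowers x⟩)
      change x * (y : G) * x⁻¹ = y at h
      have : (y : G) ∈ C := ⟨y.2, Subgroup.mem_centralizer_singleton_iff.mpr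
        (mul_inv_eq_iff_eq_mul.mp h).symm⟩
      rw [hCbot, Subgroup.mem_bot] at this
      exact Subtype.ext this
    exact ⟨⟨fun a b => Subtype.ext ((h1 a a.2).trans (h1 b b.2).symm)⟩,
      ⟨⟨1, fun g => map_one (φ g)⟩⟩⟩
  rw [hfp1, hd, ← ZMod.natCast_eq_natCast_iff, Nat.cast_pow, Nat.cast_one,
    ← orderOf_dvd_iff_pow_eq_one] at hmod
  have hde : d ≤ e := (Nat.pow_le_pow_iff_right hq.one_lt).mp (by rw [← hd, ← hcardR]; exact hle)
  have hd0 : d ≠ 0 := by
    rintro rfl
    rw [pow_zero, Subgroup.card_eq_one] at hd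
    rw [hd, Subgroup.mem_bot] at ha₀
    exact hd1 ha₀
  have := Nat.le_of_dvd (Nat.pos_of_ne_zero hd0) hmod
  rw [hd, show d = e by omega]

theorem sup_zpowers_eq_top [Finite G] {A : Subgroup G} {p : ℕ} (hp : p.Prime) (hidx : A.index = p)
    {y : G} (hy : y ∉ A) : A ⊔ Subgroup.zpowers y = ⊤ := by
  rw [← Subgroup.index_eq_one]
  rcases hp.eq_one_or_self_of_dvd _
    (hidx ▸ Subgroup.index_dvd_of_le (le_sup_left : A ≤ A ⊔ Subgroup.zpowers y)) with h | h
  · exact h
  · exfalso
    have h1 := Subgroup.relIndex_mul_index (le_sup_left : A ≤ A ⊔ Subgroup.zpowers y)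
    rw [hidx, h] at h1
    have h2 : A.relIndex (A ⊔ Subgroup.zpowers y) = 1 :=
      Nat.eq_of_mul_eq_mul_right hp.pos (by rw [h1, one_mul])
    exact hy (Subgroup.relIndex_eq_one.mp h2
      (Subgroup.mem_sup_right (Subgroup.mem_zpowers y)))

/-- A subgroup of the abelian normal subgroup `A` invariant under `y ∉ A` is normal. -/
theorem normal_of_invariant [Finite G] {A B : Subgroup G} {p : ℕ} (hp : p.Prime)
    (hidx : A.index = p) (hab : IsMulCommutative A) (hBA : B ≤ A) {y : G} (hy : y ∉ A)
    (hB : ∀ b ∈ B, y * b * y⁻¹ ∈ B) : B.Normal := by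
  rw [← Subgroup.normalizer_eq_top_iff, ← top_le_iff, ← sup_zpowers_eq_top hp hidx hy]
  refine sup_le (fun a ha => ?_) (Subgroup.zpowers_le.mpr ?_)
  · refine Subgroup.mem_normalizer_fintype fun b hb => ?_
    have h := congrArg Subtype.val (hab.is_comm.comm (⟨a, ha⟩ : A) ⟨b, hBA hb⟩)
    change a * b = b * a at h
    rwa [h, mul_inv_cancel_right]
  · exact Subgroup.mem_normalizer_fintype hB

theorem comm_of_centralizes [Finite G] {A : Subgroup G} {p : ℕ} (hp : p.Prime) (hidx : A.index = p)
    (hab : IsMulCommutative A) {y : G} (hy : y ∉ A) (hc : ∀ a ∈ A, y * a * y⁻¹ = a) :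
    IsMulCommutative G := by
  have hcA : A ≤ Subgroup.center G := by
    intro a ha
    have hle : (⊤ : Subgroup G) ≤ Subgroup.centralizer {a} := by
      rw [← sup_zpowers_eq_top hp hidx hy]
      refine sup_le (fun b hb => ?_) (Subgroup.zpowers_le.mpr ?_)
      · exact Subgroup.mem_centralizer_singleton_iff.mpr
          (congrArg Subtype.val (hab.is_comm.comm (⟨b, hb⟩ : A) ⟨a, ha⟩))
      · exact Subgroup.mem_centralizer_singleton_iff.mpr (mul_inv_eq_iff_eq_mul.mp (hc a ha))
    exact Subgroup.mem_center_iff.mpr fun g =>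
      Subgroup.mem_centralizer_singleton_iff.mp (hle (Subgroup.mem_top g))
  have hyc : y ∈ Subgroup.center G := by
    have hle : (⊤ : Subgroup G) ≤ Subgroup.centralizer {y} := by
      rw [← sup_zpowers_eq_top hp hidx hy]
      refine sup_le (fun b hb => ?_) (Subgroup.zpowers_le.mpr ?_)
      · exact Subgroup.mem_centralizer_singleton_iff.mpr
          (Subgroup.mem_center_iff.mp (hcA hb) y).symm
      · exact Subgroup.mem_centralizer_singleton_iff.mpr rfl
    exact Subgroup.mem_center_iff.mpr fun g =>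
      Subgroup.mem_centralizer_singleton_iff.mp (hle (Subgroup.mem_top g))
  have htop : Subgroup.center G = ⊤ := by
    rw [← top_le_iff, ← sup_zpowers_eq_top hp hidx hy]
    exact sup_le hcA (Subgroup.zpowers_le.mpr hyc)
  exact ⟨⟨fun a b => (Subgroup.mem_center_iff.mp (htop ▸ Subgroup.mem_top a) b).symm⟩⟩

theorem isPClosed_of_isPGroup [Finite G] {p : ℕ} (h : IsPGroup p G) : IsPClosed p G := by
  intro P
  have : (⊤ : Subgroup G) = P := P.is_maximal' (h.to_subgroup _) le_top
  rw [← this]
  infer_instance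

/-- The structure of a nonabelian `A ⋊ C_p` with `A` elementary abelian minimal normal. -/
theorem semidirect_props [Finite G] {p q : ℕ} [Fact p.Prime] (hq : q.Prime) (hpq : q ≠ p)
    (hna : ¬ IsMulCommutative G) (A : Subgroup G) [A.Normal] (hA : IsElementaryAbelian q A)
    (hidx : A.index = p) (hmin : ∀ B : Subgroup G, B.Normal → B ≤ A → B = ⊥ ∨ B = A) :
    Nat.card A = q ^ orderOf (q : ZMod p) ∧ ¬ IsPClosed p G ∧
      (∀ H : Subgroup G, H ≠ ⊤ → IsPClosed p H) ∧
      ∀ (N : Subgroup G) [N.Normal], N ≠ ⊥ → IsPClosed p (G ⧸ N) := by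
  have hp : p.Prime := Fact.out
  haveI := Fact.mk hq
  have hnmem : ∀ y : G, y ^ p = 1 → y ≠ 1 → y ∉ A := by
    intro y hyp hy1 hyA
    have h1 : orderOf y ∣ p := orderOf_dvd_of_pow_eq_one hyp
    have h2 : orderOf y ∣ q := orderOf_dvd_of_pow_eq_one (hA.2 y hyA)
    have := Nat.dvd_gcd h1 h2
    rw [Nat.Coprime.gcd_eq_one ((Nat.coprime_primes hp hq).mpr (Ne.symm hpq)), Nat.dvd_one,
      orderOf_eq_one_iff] at this
    exact hy1 this
  have hmove : ∀ y : G, y ∉ A → ∃ a ∈ A, y * a * y⁻¹ ≠ a := by
    intro y hy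
    by_contra hc
    push_neg at hc
    exact hna (comm_of_centralizes hp hidx hA.1 hy hc)
  obtain ⟨x, hx⟩ := exists_prime_orderOf_dvd_card' p
    (hidx ▸ Subgroup.index_dvd_card A : p ∣ Nat.card G)
  have hxp : x ^ p = 1 := hx ▸ pow_orderOf_eq_one x
  have hx1 : x ≠ 1 := fun h => hp.ne_one (by rw [← hx, h, orderOf_one])
  have hxA := hnmem x hxp hx1
  refine ⟨card_eq_pow_orderOf hq hpq A hA x hxp (hmove x hxA) fun B hBA hB =>
    hmin B (normal_of_invariant hp hidx hA.1 hBA hxA hB) hBA, ?_, ?_, ?_⟩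
  · intro hcl
    have hzp : IsPGroup p (Subgroup.zpowers x) :=
      IsPGroup.of_card (n := 1) (by rw [Nat.card_zpowers, hx, pow_one])
    obtain ⟨P, hP⟩ := hzp.exists_le_sylow
    obtain ⟨a, ha, hne⟩ := hmove x hxA
    apply hne
    have hxP : x ∈ (P : Subgroup G) := hP (Subgroup.mem_zpowers x)
    have hmA : x * a * x⁻¹ * a⁻¹ ∈ A := mul_mem (‹A.Normal›.conj_mem a ha x) (inv_mem ha)
    have hmP : x * a * x⁻¹ * a⁻¹ ∈ (P : Subgroup G) := by
      have : x * a * x⁻¹ * a⁻¹ = x * (a * x⁻¹ * a⁻¹) := by group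
      rw [this]
      exact mul_mem hxP ((hcl P).conj_mem _ (inv_mem hxP) a)
    obtain ⟨k, hk⟩ := P.isPGroup' ⟨_, hmP⟩
    have h1 : orderOf (x * a * x⁻¹ * a⁻¹) ∣ p ^ k :=
      orderOf_dvd_of_pow_eq_one (congrArg Subtype.val hk)
    have h2 : orderOf (x * a * x⁻¹ * a⁻¹) ∣ q := orderOf_dvd_of_pow_eq_one (hA.2 _ hmA)
    have := Nat.dvd_gcd h1 h2
    rw [Nat.Coprime.gcd_eq_one (((Nat.coprime_primes hp hq).mpr (Ne.symm hpq)).pow_left k),
      Nat.dvd_one, orderOf_eq_one_iff] at this
    exact mul_inv_eq_one.mp this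
  · intro H hH
    by_cases hpH : p ∣ Nat.card H
    · obtain ⟨y, hy⟩ := exists_prime_orderOf_dvd_card' p hpH
      have hy' : orderOf (y : G) = p := by rwa [Subgroup.orderOf_coe]
      have hyp : (y : G) ^ p = 1 := hy' ▸ pow_orderOf_eq_one _
      have hyA := hnmem y hyp fun h => hp.ne_one (by rw [← hy', h, orderOf_one])
      have hn := normal_of_invariant hp hidx hA.1 (inf_le_left : A ⊓ H ≤ A) hyA
        fun b hb => Subgroup.mem_inf.mpr ⟨‹A.Normal›.conj_mem b (Subgroup.mem_inf.mp hb).1 y,
          mul_mem (mul_mem y.2 (Subgroup.mem_inf.mp hb).2) (inv_mem y.2)⟩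
      rcases hmin _ hn inf_le_left with h | h
      · apply isPClosed_of_isPGroup
        intro g
        refine ⟨1, Subtype.ext ?_⟩
        rw [pow_one, SubmonoidClass.coe_pow, OneMemClass.coe_one]
        have : (g : G) ^ p ∈ A ⊓ H :=
          ⟨hidx ▸ Subgroup.pow_index_mem A (g : G), pow_mem g.2 p⟩
        rwa [h, Subgroup.mem_bot] at this
      · exfalso
        apply hH
        rw [← top_le_iff, ← sup_zpowers_eq_top hp hidx hyA]
        exact sup_le (h ▸ inf_le_right) (Subgroup.zpowers_le.mpr y.2)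
    · intro P
      obtain ⟨k, hk⟩ := IsPGroup.iff_card.mp P.isPGroup'
      have : (P : Subgroup H) = ⊥ := by
        rw [← Subgroup.card_eq_one, hk]
        rcases Nat.eq_zero_or_pos k with rfl | h0
        · rfl
        · exfalso
          exact hpH ((dvd_pow_self p h0.ne').trans (hk ▸ (P : Subgroup H).card_subgroup_dvd_card))
      rw [this]
      infer_instance
  · intro N hN hNne
    have hAN : A ≤ N := by
      rcases hmin (A ⊓ N) inferInstance inf_le_left with h | h
      · exfalso
        obtain ⟨n, hn, hn1⟩ := N.bot_or_exists_ne_one.resolve_left hNne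
        have hnA : n ∉ A := fun hnA => hn1 (by
          have : n ∈ A ⊓ N := ⟨hnA, hn⟩
          rwa [h, Subgroup.mem_bot] at this)
        obtain ⟨a, ha, hne⟩ := hmove n hnA
        apply hne
        have : n * a * n⁻¹ * a⁻¹ ∈ A ⊓ N := by
          refine Subgroup.mem_inf.mpr ⟨mul_mem (‹A.Normal›.conj_mem a ha n) (inv_mem ha), ?_⟩
          have : n * a * n⁻¹ * a⁻¹ = n * (a * n⁻¹ * a⁻¹) := by group
          rw [this]
          exact mul_mem hn (hN.conj_mem _ (inv_mem hn) a)
        rw [h, Subgroup.mem_bot] at this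
        exact mul_inv_eq_one.mp this
      · exact h ▸ inf_le_right
    apply isPClosed_of_isPGroup
    intro g
    obtain ⟨g, rfl⟩ := QuotientGroup.mk_surjective g
    refine ⟨1, ?_⟩
    rw [pow_one, ← QuotientGroup.mk_pow, QuotientGroup.eq_one_iff]
    exact hAN (hidx ▸ Subgroup.pow_index_mem A g)

/-- If a normal `p`-subgroup has a `p`-closed quotient then the group is `p`-closed. -/
theorem isPClosed_of_quotient [Finite G] {p : ℕ} [Fact p.Prime] (N : Subgroup G) [N.Normal]
    (hN : IsPGroup p N) (h : IsPClosed p (G ⧸ N)) : IsPClosed p G := by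
  intro P
  have hNP : N ≤ P := (Basics.le_pCore hN).trans (Basics.pCore_le_sylow p P)
  have hn := h (P.mapSurjective (QuotientGroup.mk'_surjective N))
  rw [Sylow.coe_mapSurjective] at hn
  have := hn.comap (QuotientGroup.mk' N)
  rwa [Subgroup.comap_map_eq, QuotientGroup.ker_mk', sup_eq_left.mpr hNP] at this

/-- A normal Sylow `p`-subgroup of a normal subgroup is normal in the whole group. -/
theorem normal_map_of_isPClosed [Finite G] {p : ℕ} [Fact p.Prime] (N : Subgroup G) [N.Normal]
    (h : IsPClosed p N) (P : Sylow p N) : ((P : Subgroup N).map N.subtype).Normal := by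
  haveI := P.characteristic_of_normal (h P)
  infer_instance

/-- A non-simple minimal non-`p`-closed group. -/
theorem not_simple_structure [Finite G] {p : ℕ} [Fact p.Prime]
    (hnc : ¬ IsPClosed p G) (hsub : ∀ H : Subgroup G, H ≠ ⊤ → IsPClosed p H)
    (hquo : ∀ (N : Subgroup G) [N.Normal], N ≠ ⊥ → IsPClosed p (G ⧸ N))
    (hns : ¬ IsSimpleGroup G) :
    ∃ q : ℕ, q.Prime ∧ q ≠ p ∧ Nat.card G = p * q ^ orderOf (q : ZMod p) ∧
      ∃ A : Subgroup G, A.Normal ∧ Nat.card A = q ^ orderOf (q : ZMod p) ∧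
        IsElementaryAbelian q A ∧
        ∀ B : Subgroup G, B.Normal → B ≤ A → B = ⊥ ∨ B = A := by
  have hp : p.Prime := Fact.out
  haveI hnt : Nontrivial G := by
    by_contra h
    rw [not_nontrivial_iff_subsingleton] at h
    apply hnc
    intro P
    exact ⟨fun n hn g => by rwa [Subsingleton.elim (g * n * g⁻¹) n]⟩
  obtain ⟨H, hHn, hH0, hH1⟩ : ∃ H : Subgroup G, H.Normal ∧ H ≠ ⊥ ∧ H ≠ ⊤ := by
    by_contra hc
    push_neg at hc
    apply hns
    exact { eq_bot_or_eq_top_of_normal := fun H hH => or_iff_not_imp_left.mpr (hc H hH) }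
  haveI := hHn
  obtain ⟨N, hNn, hNH, hN0, hNmin⟩ := Basics.exists_minimal_normal hH0
  haveI := hNn
  have hN1 : N ≠ ⊤ := fun h => hH1 (top_le_iff.mp (h ▸ hNH))
  have hnp : ∀ (K : Subgroup G) [K.Normal], K ≠ ⊥ → ¬ IsPGroup p K := fun K _ hK h =>
    hnc (isPClosed_of_quotient K h (hquo K hK))
  have hpN : (Nat.card N).Coprime p := by
    obtain ⟨S⟩ : Nonempty (Sylow p N) := Sylow.nonempty
    rcases hNmin _ (normal_map_of_isPClosed N (hsub N hN1) S) (Subgroup.map_subtype_le _) with
      h | h
    · rw [Nat.coprime_comm, hp.coprime_iff_not_dvd]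
      intro hd
      have h1 := S.dvd_card_of_dvd_card hd
      rw [(Subgroup.map_eq_bot_iff_of_injective _ N.subtype_injective).mp h,
        Subgroup.card_bot] at h1
      exact hp.not_dvd_one h1
    · exact absurd (h ▸ S.isPGroup'.map N.subtype) (hnp N hN0)
  -- `G = N P` for every Sylow subgroup `P`
  have htop : ∀ P : Sylow p G, N ⊔ (P : Subgroup G) = ⊤ := by
    intro P
    by_contra hM
    have hn := hquo N hN0 (P.mapSurjective (QuotientGroup.mk'_surjective N))
    rw [Sylow.coe_mapSurjective] at hn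
    have hMn := hn.comap (QuotientGroup.mk' N)
    rw [Subgroup.comap_map_eq, QuotientGroup.ker_mk', sup_comm] at hMn
    haveI := hMn
    have := normal_map_of_isPClosed (N ⊔ (P : Subgroup G)) (hsub _ hM) (P.subtype le_sup_right)
    rw [Sylow.coe_subtype, Subgroup.map_subgroupOf_eq_of_le le_sup_right] at this
    apply hnc
    intro Q
    haveI := Sylow.unique_of_normal P this
    rw [Subsingleton.elim Q P]
    assumption
  obtain ⟨P⟩ : Nonempty (Sylow p G) := Sylow.nonempty
  obtain ⟨n, hn⟩ := IsPGroup.iff_card.mp P.isPGroup'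
  have hcop : (Nat.card N).Coprime (Nat.card (P : Subgroup G)) := by
    rw [hn]; exact hpN.pow_right n
  have hnorm : ∀ K : Subgroup G, K ≤ Subgroup.normalizer (N : Set G) := fun K => by
    rw [Subgroup.normalizer_eq_top]; exact le_top
  have hcardG : Nat.card G = Nat.card N * Nat.card (P : Subgroup G) := by
    rw [← Basics.card_sup_of_coprime (hnorm _) hcop, htop, Subgroup.card_top]
  -- proper subgroups of `P` centralise `N`
  have hprop : ∀ T : Subgroup G, T < P → T ≤ Subgroup.centralizer (N : Set G) := by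
    intro T hT
    have hTp : IsPGroup p T := P.isPGroup'.to_le hT.le
    obtain ⟨t, ht⟩ := IsPGroup.iff_card.mp hTp
    have hc : Nat.card (N ⊔ T : Subgroup G) = Nat.card N * Nat.card T :=
      Basics.card_sup_of_coprime (hnorm _) (by rw [ht]; exact hpN.pow_right t)
    have hne : N ⊔ T ≠ ⊤ := by
      intro h
      rw [h, Subgroup.card_top, hcardG] at hc
      exact (Basics.card_lt_of_lt hT).ne' (Nat.eq_of_mul_eq_mul_left Nat.card_pos hc)
    have hTcard : Nat.card (T.subgroupOf (N ⊔ T)) =
        p ^ (Nat.card (N ⊔ T : Subgroup G)).factorization p := by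
      rw [Basics.card_subgroupOf le_sup_right, hc, ht,
        Nat.factorization_mul Nat.card_pos.ne' (pow_ne_zero _ hp.ne_zero), Finsupp.add_apply,
        Nat.factorization_eq_zero_of_not_dvd (hp.coprime_iff_not_dvd.mp hpN.symm),
        hp.factorization_pow, Finsupp.single_eq_same, zero_add]
    have hTn := hsub _ hne (Sylow.ofCard _ hTcard)
    rw [Sylow.coe_ofCard] at hTn
    intro y hy
    rw [Subgroup.mem_centralizer_iff]
    intro m hm
    have h1 : y * m * y⁻¹ * m⁻¹ ∈ N := mul_mem (hNn.conj_mem m hm y) (inv_mem hm)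
    have h2 : y * m * y⁻¹ * m⁻¹ ∈ T := by
      have h3 := hTn.conj_mem ⟨y⁻¹, Subgroup.mem_sup_right (inv_mem hy)⟩ (inv_mem hy)
        ⟨m, Subgroup.mem_sup_left hm⟩
      have : y * m * y⁻¹ * m⁻¹ = y * (m * y⁻¹ * m⁻¹) := by group
      rw [this]
      exact mul_mem hy h3
    have h3 := (Subgroup.disjoint_of_coprime_natCard (K := T) (by rw [ht]; exact hpN.pow_right t :
      (Nat.card N).Coprime (Nat.card T))).eq_bot
    have : y * m * y⁻¹ * m⁻¹ ∈ N ⊓ T := ⟨h1, h2⟩
    rw [h3, Subgroup.mem_bot, mul_inv_eq_one] at this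
    exact (mul_inv_eq_iff_eq_mul.mp this).symm
  have hnotc : ¬ (P : Subgroup G) ≤ Subgroup.centralizer (N : Set G) := by
    intro hc
    apply hnc
    have hPn : (P : Subgroup G).Normal := by
      rw [← Subgroup.normalizer_eq_top_iff, ← top_le_iff, ← htop P]
      refine sup_le (fun m hm => Subgroup.mem_normalizer_fintype fun y hy => ?_)
        Subgroup.le_normalizer
      have := Subgroup.mem_centralizer_iff.mp (hc hy) m hm
      rwa [this, mul_inv_cancel_right]
    intro Q
    haveI := Sylow.unique_of_normal P hPn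
    rw [Subsingleton.elim Q P]
    exact hPn
  obtain ⟨z, hzP, hz⟩ : ∃ z ∈ (P : Subgroup G), z ∉ Subgroup.centralizer (N : Set G) :=
    Set.not_subset.mp hnotc
  have hzgen : Subgroup.zpowers z = P := by
    by_contra hne
    exact hz (hprop _ (lt_of_le_of_ne (Subgroup.zpowers_le.mpr hzP) hne) (Subgroup.mem_zpowers z))
  have hz1 : z ≠ 1 := fun h => hz (h ▸ one_mem _)
  have hn0 : n ≠ 0 := by
    rintro rfl
    rw [pow_zero, Subgroup.card_eq_one, ← hzgen, Subgroup.zpowers_eq_bot] at hn
    exact hz1 hn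
  have hoz : orderOf z = p ^ n := by rw [← Nat.card_zpowers, hzgen, hn]
  have hn1 : n = 1 := by
    by_contra hn1
    have hpos : z ^ p ≠ 1 := by
      intro h
      have := orderOf_dvd_of_pow_eq_one h
      rw [hoz] at this
      exact hn1 (le_antisymm ((Nat.pow_dvd_pow_iff_le_right hp.one_lt).mp
        (this.trans (dvd_of_eq (pow_one p).symm))) (Nat.pos_of_ne_zero hn0))
    have hlt : Subgroup.zpowers (z ^ p) < P := by
      refine lt_of_le_of_ne (Subgroup.zpowers_le.mpr (pow_mem hzP p)) fun h => ?_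
      have h1 := congrArg (fun K : Subgroup G => Nat.card K) h
      simp only [Nat.card_zpowers, hn, orderOf_pow, hoz,
        Nat.gcd_eq_right (dvd_pow_self p hn0)] at h1
      exact (Nat.div_lt_self (pow_pos hp.pos n) hp.one_lt).ne h1
    have hcen : z ^ p ∈ Subgroup.center G := by
      have hle : (⊤ : Subgroup G) ≤ Subgroup.centralizer {z ^ p} := by
        rw [← htop P]
        refine sup_le (fun m hm => Subgroup.mem_centralizer_singleton_iff.mpr
          (Subgroup.mem_centralizer_iff.mp (hprop _ hlt (Subgroup.mem_zpowers _)) m hm)) ?_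
        rw [← hzgen, Subgroup.zpowers_le]
        exact Subgroup.mem_centralizer_singleton_iff.mpr ((Commute.refl z).pow_right p).eq
      exact Subgroup.mem_center_iff.mpr fun g =>
        Subgroup.mem_centralizer_singleton_iff.mp (hle (Subgroup.mem_top g))
    haveI hKn : (Subgroup.zpowers (z ^ p)).Normal := ⟨fun k hk g => by
      have hk' := Subgroup.mem_center_iff.mp ((Subgroup.zpowers_le.mpr hcen) hk) g
      rwa [hk', mul_inv_cancel_right]⟩
    exact hnp (Subgroup.zpowers (z ^ p)) (Subgroup.zpowers_ne_bot.mpr hpos)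
      (P.isPGroup'.to_le hlt.le)
  subst hn1
  rw [pow_one] at hn hoz
  -- `N` is a `q`-group
  obtain ⟨q, hq, hqN⟩ : ∃ q, q.Prime ∧ IsPGroup q N := by
    by_contra hc
    push_neg at hc
    apply hz
    rw [Subgroup.mem_centralizer_iff]
    intro m hm
    have hle : N ≤ Subgroup.centralizer {z} := by
      have hdvd : Nat.card N ∣ Nat.card (N ⊓ Subgroup.centralizer {z} : Subgroup G) := by
        rw [← Nat.factorization_le_iff_dvd Nat.card_pos.ne' Nat.card_pos.ne']
        intro r
        rcases Classical.em r.Prime with hr | hr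
        · haveI := Fact.mk hr
          obtain ⟨S, hS, hSinv⟩ := Basics.exists_invariant_isSylowIn (Subgroup.zpowers z) N
            (hnorm _) (by rw [Nat.card_zpowers, hoz]; exact hpN.symm)
            (Or.inl inferInstance) r
          have hSne : S ≠ N := fun h => hc r hr (h ▸ hS.isPGroup)
          have hcopS : (Nat.card S).Coprime (Nat.card (P : Subgroup G)) :=
            hcop.coprime_dvd_left (Subgroup.card_dvd_of_le hS.1)
          have hcardS := Basics.card_sup_of_coprime (N := S) (H := (P : Subgroup G))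
            (hzgen ▸ hSinv) hcopS
          have hne : S ⊔ (P : Subgroup G) ≠ ⊤ := by
            intro h
            rw [h, Subgroup.card_top, hcardG] at hcardS
            exact hSne (Subgroup.eq_of_le_of_card_ge hS.1
              (Nat.eq_of_mul_eq_mul_right Nat.card_pos hcardS).le)
          have hPn := hsub _ hne (P.subtype le_sup_right)
          rw [Sylow.coe_subtype] at hPn
          have hSc : S ≤ N ⊓ Subgroup.centralizer {z} := by
            intro s hs
            refine ⟨hS.1 hs, Subgroup.mem_centralizer_singleton_iff.mpr ?_⟩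
            have h1 : z * s * z⁻¹ * s⁻¹ ∈ S :=
              mul_mem ((Subgroup.mem_normalizer_iff.mp (hSinv (Subgroup.mem_zpowers z)) s).mp hs)
                (inv_mem hs)
            have h2 : z * s * z⁻¹ * s⁻¹ ∈ (P : Subgroup G) := by
              have h3 := hPn.conj_mem ⟨z⁻¹, Subgroup.mem_sup_right (inv_mem hzP)⟩ (inv_mem hzP)
                ⟨s, Subgroup.mem_sup_left hs⟩
              have : z * s * z⁻¹ * s⁻¹ = z * (s * z⁻¹ * s⁻¹) := by group
              rw [this]
              exact mul_mem hzP h3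
            have : z * s * z⁻¹ * s⁻¹ ∈ S ⊓ (P : Subgroup G) := ⟨h1, h2⟩
            rw [(Subgroup.disjoint_of_coprime_natCard hcopS).eq_bot, Subgroup.mem_bot,
              mul_inv_eq_one] at this
            exact (mul_inv_eq_iff_eq_mul.mp this).symm
          have := Subgroup.card_dvd_of_le hSc
          rw [hS.2] at this
          exact (hr.pow_dvd_iff_le_factorization Nat.card_pos.ne').mp this
        · simp [Nat.factorization_eq_zero_of_not_prime _ hr]
      exact inf_eq_left.mp (Subgroup.eq_of_le_of_card_ge inf_le_left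
        (Nat.le_of_dvd Nat.card_pos hdvd))
    exact Subgroup.mem_centralizer_singleton_iff.mp (hle hm)
  haveI := Fact.mk hq
  have hqp : q ≠ p := by
    rintro rfl
    exact hnp N hN0 hqN
  obtain ⟨hab, r, hr, hexp, hrN⟩ := Basics.minimal_normal_solvable hN0
    (haveI := hqN.isNilpotent; inferInstance) hNmin
  have hrq : r = q := by
    obtain ⟨k, hk⟩ := IsPGroup.iff_card.mp hqN
    haveI := Fact.mk hr
    obtain ⟨j, hj⟩ := IsPGroup.iff_card.mp hrN
    have hk0 : k ≠ 0 := fun h => hN0 (Subgroup.card_eq_one.mp (by rw [hk, h, pow_zero]))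
    have : q ∣ r ^ j := hj ▸ hk ▸ dvd_pow_self q hk0
    exact ((Nat.prime_dvd_prime_iff_eq hq hr).mp (hq.dvd_of_dvd_pow this)).symm
  subst hrq
  have hea : IsElementaryAbelian r N := ⟨hab, hexp⟩
  have hidx : N.index = p := by
    refine Nat.eq_of_mul_eq_mul_left (Nat.card_pos (α := N)) ?_
    rw [Subgroup.card_mul_index, hcardG, hn]
  have hna : ¬ IsMulCommutative G := fun h => hz (Subgroup.mem_centralizer_iff.mpr
    fun m _ => h.is_comm.comm m z)
  have hcardN := (semidirect_props hr hqp hna N hea hidx hNmin).1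
  exact ⟨r, hr, hqp, by rw [hcardG, hn, hcardN, mul_comm], N, hNn, hcardN, hea, hNmin⟩

end Cfsg.Agent.MinPClosed
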