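import Cfsg.Agent.Lib.Basics.Tools
import Cfsg.Prelude.Def_LocalStructure

/-!
Simple groups whose proper subgroups are all `p`-closed have TI Sylow `p`-subgroups.
-/

set_option autoImplicit false

namespace Cfsg.Agent.Coprime23

open Cfsg

theorem ti_of_minimal_not_pClosed {G : Type*} [Group G] [Finite G] [IsSimpleGroup G] {p : ℕ}
    [Fact p.Prime] (hnc : ¬ IsPClosed p G) (hsub : ∀ H : Subgroup G, H ≠ ⊤ → IsPClosed p ↥H) :
    (∀ P Q : Sylow p G, P ≠ Q → (P : Subgroup G) ⊓ (Q : Subgroup G) = ⊥) ∧
      ∀ (P : Sylow p G) (R : Subgroup G), R ≤ P → R ≠ ⊥ →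
        Subgroup.normalizer (R : Set G) ≤ Subgroup.normalizer ((P : Subgroup G) : Set G) := by
  have hTI : ∀ P Q : Sylow p G, (P : Subgroup G) ⊓ (Q : Subgroup G) ≠ ⊥ → P = Q := by
    intro P Q
    induction hm : Nat.card G - Nat.card ↥((P : Subgroup G) ⊓ (Q : Subgroup G)) using
      Nat.strong_induction_on generalizing P Q with
    | _ m ih =>
      intro hne
      subst hm
      set D := (P : Subgroup G) ⊓ (Q : Subgroup G) with hD
      by_contra hPQ
      set N := Subgroup.normalizer (D : Set G) with hN
      have hNtop : N ≠ ⊤ := by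
        intro htop
        haveI : D.Normal := Subgroup.normalizer_eq_top_iff.mp htop
        rcases (inferInstance : D.Normal).eq_bot_or_eq_top with h | h
        · exact hne h
        · apply hPQ
          refine Sylow.ext ?_
          rw [top_le_iff.mp (h ▸ inf_le_left : (⊤ : Subgroup G) ≤ P),
            top_le_iff.mp (h ▸ inf_le_right : (⊤ : Subgroup G) ≤ Q)]
      obtain ⟨T⟩ : Nonempty (Sylow p N) := Sylow.nonempty
      haveI := hsub N hNtop T
      haveI := Sylow.unique_of_normal T this
      obtain ⟨U, hU⟩ := ((T.isPGroup'.map N.subtype)).exists_le_sylow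
      -- a Sylow subgroup through `D` is `U`
      have key : ∀ R : Sylow p G, D ≤ R → ¬ (R : Subgroup G) ≤ D → R = U := by
        intro R hDR hne'
        set W := (R : Subgroup G) ⊓ N with hW
        have hgrow : D < W := by
          refine lt_of_le_of_ne (le_inf hDR Subgroup.le_normalizer) fun he => hne' ?_
          haveI : Group.IsNilpotent (R : Subgroup G) := R.isPGroup'.isNilpotent
          have hnc' := normalizerCondition_of_isNilpotent (G := (R : Subgroup G))
          by_contra hle
          have hlt : D.subgroupOf (R : Subgroup G) < ⊤ := lt_top_iff_ne_top.mpr fun h =>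
            hle (Subgroup.subgroupOf_eq_top.mp h)
          obtain ⟨x, hx, hxD⟩ := SetLike.exists_of_lt (hnc' _ hlt)
          apply hxD
          show (x : G) ∈ D
          rw [he, hW]
          refine ⟨x.2, ?_⟩
          show (x : G) ∈ Subgroup.normalizer (D : Set G)
          rw [Subgroup.mem_normalizer_iff]
          intro y
          constructor
          · intro hy
            exact (Subgroup.mem_normalizer_iff.mp hx ⟨y, hDR hy⟩).mp hy
          · intro hy
            have hyR : y ∈ (R : Subgroup G) := by
              have := (R : Subgroup G).mul_mem ((R : Subgroup G).mul_mem ((R : Subgroup G).inv_mem x.2) (hDR hy)) x.2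
              simpa [mul_assoc] using this
            exact (Subgroup.mem_normalizer_iff.mp hx ⟨y, hyR⟩).mpr hy
        have hWU : W ≤ U := by
          have hp' : IsPGroup p (W.subgroupOf N) :=
            (R.isPGroup'.to_le inf_le_left).comap_of_injective _ N.subtype_injective
          obtain ⟨T', hT'⟩ := hp'.exists_le_sylow
          rw [Subsingleton.elim T' T] at hT'
          intro w hw
          exact hU ⟨⟨w, hw.2⟩, hT' hw, rfl⟩
        have hlt2 : Nat.card D < Nat.card ↥((R : Subgroup G) ⊓ (U : Subgroup G)) :=
          (Basics.card_lt_of_lt hgrow).trans_le (Subgroup.card_le_of_le (le_inf inf_le_left hWU))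
        have hle3 := Subgroup.card_le_card_group ((R : Subgroup G) ⊓ (U : Subgroup G))
        refine ih _ ?_ R U rfl fun h => ?_
        · omega
        · rw [h] at hlt2
          simp at hlt2
          have := Nat.card_pos (α := D)
          omega
      have hnPQ : ¬ (P : Subgroup G) ≤ D := fun h =>
        hPQ (Sylow.ext (P.is_maximal' Q.isPGroup' (h.trans inf_le_right)).symm)
      have hnQP : ¬ (Q : Subgroup G) ≤ D := fun h =>
        hPQ (Sylow.ext (Q.is_maximal' P.isPGroup' (h.trans inf_le_left)))
      exact hPQ ((key P inf_le_left hnPQ).trans (key Q inf_le_right hnQP).symm)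
  refine ⟨fun P Q hPQ => ?_, fun P R hR hne g hg => ?_⟩
  · by_contra h
    exact hPQ (hTI P Q h)
  · refine Sylow.smul_eq_iff_mem_normalizer.mp ?_
    refine (hTI P (g • P) ?_).symm
    intro h
    apply hne
    rw [eq_bot_iff, ← h]
    intro x hx
    refine ⟨hR hx, ?_⟩
    show x ∈ ((g • P : Sylow p G) : Subgroup G)
    rw [Sylow.coe_subgroup_smul, Basics.mem_conj_smul]
    exact hR ((Subgroup.mem_normalizer_iff''.mp hg x).mp hx)

end Cfsg.Agent.Coprime23
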