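import Cfsg.Agent.Lib.Basics.SchurZassenhaus
import Cfsg.Agent.Lib.Basics.Cores
import Cfsg.Agent.Lib.Coprime23.PSolv

/-!
`p`-complements of finite `p`-solvable groups: existence, conjugacy, dominance.
-/

set_option autoImplicit false

universe u

namespace Cfsg.Agent.PComplement

open Cfsg Basics
open scoped Pointwise

theorem isPGroup_inf_coprime {G : Type u} [Group G] [Finite G] {p : ℕ} [Fact p.Prime]
    {N U : Subgroup G} (hN : IsPGroup p N) (hU : (Nat.card U).Coprime p) :
    (Nat.card N).Coprime (Nat.card U) := by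
  obtain ⟨j, hj⟩ := IsPGroup.iff_card.mp hN
  rw [hj]
  exact hU.symm.pow_left j

theorem main (k : ℕ) : ∀ (G : Type u) [Group G] [Finite G], Nat.card G = k →
    ∀ (p : ℕ) [Fact p.Prime], IsPSolvable p G →
    (∃ H : Subgroup G, (Nat.card H).Coprime p ∧ ∃ n : ℕ, H.index = p ^ n) ∧
      ∀ (U H : Subgroup G), (Nat.card U).Coprime p → (Nat.card H).Coprime p →
        (∃ n : ℕ, H.index = p ^ n) → ∃ g : G, MulAut.conj g • U ≤ H := by
  induction k using Nat.strong_induction_on with
  | _ k ih =>
    intro G _ _ hk p _ hG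
    have hp : p.Prime := Fact.out
    rcases subsingleton_or_nontrivial G with hs | hs
    · exact ⟨⟨⊥, by rw [Subgroup.card_bot]; exact Nat.coprime_one_left p,
        0, by rw [pow_zero, Subgroup.index_bot, Nat.card_of_subsingleton (1 : G)]⟩,
        fun U H _ _ _ => ⟨1, fun x _ => by rw [Subsingleton.elim x 1]; exact one_mem H⟩⟩
    -- the image of a complement in a quotient
    have himg : ∀ (N : Subgroup G) [N.Normal] (H : Subgroup G), (Nat.card H).Coprime p →
        (∃ n : ℕ, H.index = p ^ n) →
        (Nat.card (H.map (QuotientGroup.mk' N))).Coprime p ∧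
          ∃ n : ℕ, (H.map (QuotientGroup.mk' N)).index = p ^ n := by
      intro N _ H hH hn
      obtain ⟨n, hn⟩ := hn
      refine ⟨hH.coprime_dvd_left (Subgroup.card_map_dvd _ _), ?_⟩
      obtain ⟨j, -, hj⟩ := (Nat.dvd_prime_pow hp).mp
        (hn ▸ Subgroup.index_map_dvd H (QuotientGroup.mk'_surjective N))
      exact ⟨j, hj⟩
    have hquot : ∀ (N : Subgroup G) [N.Normal], N ≠ ⊥ →
        (∃ H : Subgroup (G ⧸ N), (Nat.card H).Coprime p ∧ ∃ n : ℕ, H.index = p ^ n) ∧
        ∀ (U H : Subgroup G), (Nat.card U).Coprime p → (Nat.card H).Coprime p →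
          (∃ n : ℕ, H.index = p ^ n) → ∃ g : G, MulAut.conj g • U ≤ H ⊔ N := by
      intro N _ hN
      obtain ⟨hex, hdom⟩ := ih _ (hk ▸ card_quotient_lt hN) (G ⧸ N) rfl p
        (Coprime23.isPSolvable_map _ (QuotientGroup.mk'_surjective N) hG)
      refine ⟨hex, fun U H hU hH hn => ?_⟩
      obtain ⟨g, hg⟩ := hdom (U.map (QuotientGroup.mk' N)) (H.map (QuotientGroup.mk' N))
        (hU.coprime_dvd_left (Subgroup.card_map_dvd _ _)) (himg N H hH hn).1 (himg N H hH hn).2
      obtain ⟨g, rfl⟩ := QuotientGroup.mk_surjective g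
      refine ⟨g, ?_⟩
      rw [← QuotientGroup.mk'_apply N g, ← map_conj_smul, Subgroup.map_le_iff_le_comap,
        Subgroup.comap_map_eq, QuotientGroup.ker_mk'] at hg
      exact hg
    rcases Coprime23.exists_core_ne_bot hG with hN | hN
    · -- a normal `p`-subgroup
      set N := pCore p G with hNdef
      have hNp : IsPGroup p N := pCore_isPGroup p
      obtain ⟨⟨K₀, hK₀, n₀, hn₀⟩, hdom⟩ := hquot N hN
      refine ⟨?_, ?_⟩
      · set K := K₀.comap (QuotientGroup.mk' N) with hK
        have hNK : N ≤ K := le_trans (by rw [QuotientGroup.ker_mk'])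
          (MonoidHom.ker_le_comap (QuotientGroup.mk' N) K₀)
        have hcardK : Nat.card K = Nat.card N * Nat.card K₀ := card_comap_mk' K₀
        obtain ⟨j, hj⟩ := IsPGroup.iff_card.mp hNp
        have hidx : (N.subgroupOf K).index = Nat.card K₀ := by
          have := (N.subgroupOf K).card_mul_index
          rw [card_subgroupOf hNK, hcardK] at this
          exact Nat.eq_of_mul_eq_mul_left Nat.card_pos this
        obtain ⟨H, hH⟩ := Subgroup.exists_right_complement'_of_coprime
          (N := N.subgroupOf K) (by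
            rw [card_subgroupOf hNK, hidx, hj]
            exact hK₀.symm.pow_left j)
        have hcH : Nat.card (H.map K.subtype) = Nat.card K₀ := by
          rw [Subgroup.card_map_of_injective K.subtype_injective, ← hidx, hH.symm.index_eq_card]
        refine ⟨H.map K.subtype, hcH ▸ hK₀, n₀ + j, ?_⟩
        have h1 := (H.map K.subtype).card_mul_index
        have h2 := K.card_mul_index
        have h3 : K.index = p ^ n₀ := by
          rw [hK, K₀.index_comap_of_surjective (QuotientGroup.mk'_surjective N), hn₀]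
        rw [hcH, ← h2, hcardK, h3, hj] at h1
        refine Nat.eq_of_mul_eq_mul_left (Nat.card_pos (α := K₀)) ?_
        rw [h1, pow_add]
        ring
      · intro U H hU hH hn
        obtain ⟨g, hg⟩ := hdom U H hU hH hn
        set U' := MulAut.conj g • U with hU'
        have hU'p : (Nat.card U').Coprime p := by rw [card_conj_smul]; exact hU
        set T := (N ⊔ U') ⊓ H with hT
        have hTp : (Nat.card T).Coprime p :=
          hH.coprime_dvd_left (Subgroup.card_dvd_of_le inf_le_right)
        have hcN : (Nat.card N).Coprime (Nat.card U') := isPGroup_inf_coprime hNp hU'p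
        have hcT : (Nat.card N).Coprime (Nat.card T) := isPGroup_inf_coprime hNp hTp
        have hsupT : N ⊔ T = N ⊔ U' := by
          refine le_antisymm (sup_le le_sup_left inf_le_left) fun x hx => ?_
          have hxHN : x ∈ N ⊔ H := by
            refine sup_le le_sup_left (hg.trans (le_of_eq (sup_comm H N))) hx
          obtain ⟨m, hm, h, hh, rfl⟩ :=
            (mem_sup_of_le_normalizer Subgroup.le_normalizer_of_normal).mp hxHN
          refine Subgroup.mul_mem_sup hm ⟨?_, hh⟩
          have := mul_mem (Subgroup.mem_sup_left (T := U') (inv_mem hm)) hx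
          rwa [inv_mul_cancel_left] at this
        have hcard : Nat.card U' = Nat.card T := by
          have h1 := card_sup_of_coprime (N := N) (H := T) Subgroup.le_normalizer_of_normal hcT
          have h2 := card_sup_of_coprime (N := N) (H := U') Subgroup.le_normalizer_of_normal hcN
          rw [hsupT, h2] at h1
          exact Nat.eq_of_mul_eq_mul_left Nat.card_pos h1
        obtain ⟨m, -, hm⟩ := exists_conj_eq_of_coprime N T U' Subgroup.le_normalizer_of_normal
          hcT (hsupT ▸ le_sup_right) hcard (Or.inl (haveI := hNp.isNilpotent; inferInstance))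
        refine ⟨m⁻¹ * g, ?_⟩
        rw [← conj_smul_conj_smul, ← hU', ← hm, conj_smul_conj_smul, inv_mul_cancel, conj_smul_one]
        exact inf_le_right
    · -- a normal `p'`-subgroup
      set N := pPrimeCore p G with hNdef
      have hNp : (Nat.card N).Coprime p := pPrimeCore_coprime p
      obtain ⟨⟨K₀, hK₀, n₀, hn₀⟩, hdom⟩ := hquot N hN
      refine ⟨⟨K₀.comap (QuotientGroup.mk' N), ?_, n₀, ?_⟩, ?_⟩
      · rw [card_comap_mk']
        exact Nat.Coprime.mul_left hNp hK₀
      · rw [K₀.index_comap_of_surjective (QuotientGroup.mk'_surjective N), hn₀]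
      · intro U H hU hH hn
        obtain ⟨g, hg⟩ := hdom U H hU hH hn
        refine ⟨g, hg.trans (sup_le le_rfl ?_)⟩
        obtain ⟨n, hn⟩ := hn
        have hcp : (Nat.card (N ⊔ H : Subgroup G)).Coprime p := by
          refine Nat.Coprime.coprime_dvd_left ?_ (Nat.Coprime.mul_left hNp hH)
          exact Dvd.intro _ (card_mul_card_eq_card_sup_mul_card_inf
            (N := N) (H := H) Subgroup.le_normalizer_of_normal).symm
        have hdvd : Nat.card (N ⊔ H : Subgroup G) ∣ Nat.card H := by
          refine (hcp.pow_right n).dvd_of_dvd_mul_right ?_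
          rw [← hn, Subgroup.card_mul_index]
          exact Subgroup.card_subgroup_dvd_card _
        have := Subgroup.eq_of_le_of_card_ge (le_sup_right : H ≤ N ⊔ H)
          (Nat.le_of_dvd Nat.card_pos hdvd)
        exact le_sup_left.trans this.ge

/-- Existence, dominance and conjugacy of `p`-complements. -/
theorem exists_pComplement {G : Type u} [Group G] [Finite G] {p : ℕ} [Fact p.Prime]
    (hG : IsPSolvable p G) : ∃ H : Subgroup G, (Nat.card H).Coprime p ∧ ∃ n : ℕ, H.index = p ^ n :=
  (main _ G rfl p hG).1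

theorem exists_conj_le {G : Type u} [Group G] [Finite G] {p : ℕ} [Fact p.Prime]
    (hG : IsPSolvable p G) {U H : Subgroup G} (hU : (Nat.card U).Coprime p)
    (hH : (Nat.card H).Coprime p) (hn : ∃ n : ℕ, H.index = p ^ n) :
    ∃ g : G, MulAut.conj g • U ≤ H :=
  (main _ G rfl p hG).2 U H hU hH hn

theorem conj_pComplement {G : Type u} [Group G] [Finite G] {p : ℕ} [Fact p.Prime]
    (hG : IsPSolvable p G) {H K : Subgroup G} (hH : (Nat.card H).Coprime p)
    (hn : ∃ n : ℕ, H.index = p ^ n) (hK : (Nat.card K).Coprime p) (hm : ∃ n : ℕ, K.index = p ^ n) :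
    ∃ g : G, MulAut.conj g • H = K := by
  obtain ⟨g, hg⟩ := exists_conj_le hG hH hK hm
  refine ⟨g, Subgroup.eq_of_le_of_card_ge hg ?_⟩
  rw [card_conj_smul]
  obtain ⟨n, hn⟩ := hn
  refine Nat.le_of_dvd Nat.card_pos ((hK.pow_right n).dvd_of_dvd_mul_right ?_)
  rw [← hn, Subgroup.card_mul_index]
  exact Subgroup.card_subgroup_dvd_card _

end Cfsg.Agent.PComplement
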