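import Cfsg.Agent.Lib.Components.Subnormal
import Cfsg.Agent.Lib.Basics.Tools

/-!
Minimal normal subgroups normalise subnormal subgroups; subnormal subgroups of maximal subgroups.
-/

set_option autoImplicit false

namespace Cfsg.Agent.Coprime23

universe u

/-- Wielandt: a minimal normal subgroup normalises every subnormal subgroup. -/
theorem minimal_normal_le_normalizer {G : Type u} [Group G] [Finite G] {L N : Subgroup G}
    [L.Normal] (hmin : ∀ K : Subgroup G, K.Normal → K ≤ L → K = ⊥ ∨ K = L) (hN : N.IsSubnormal) :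
    L ≤ Subgroup.normalizer (N : Set G) := by
  induction hc : Nat.card G using Nat.strong_induction_on generalizing G with
  | _ n ih =>
    subst hc
    rcases hN.lt_normal with rfl | ⟨K, hKn, hNK, hlt⟩
    · rw [Subgroup.normalizer_eq_top]; exact le_top
    haveI := hKn
    rcases hmin (L ⊓ K) inferInstance inf_le_left with hbot | htop
    · intro l hl
      refine Subgroup.centralizer_le_normalizer _ (Subgroup.mem_centralizer_iff.mpr fun x hx => ?_)
      exact (Subgroup.commute_of_normal_of_disjoint L K inferInstance inferInstance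
        (disjoint_iff.mpr hbot) l x hl (hNK hx)).eq.symm
    have hLK : L ≤ K := htop ▸ inf_le_right
    rcases eq_or_ne L ⊥ with hL | hL
    · rw [hL]; exact bot_le
    have hlt' : Nat.card K < Nat.card G :=
      Basics.card_lt_card_of_ne_top hlt.ne
    obtain ⟨M, hMn, hML, hMne, hMmin⟩ := Basics.exists_minimal_normal
      (N := L.subgroupOf K) (fun h => hL (by
        rw [← Subgroup.map_subgroupOf_eq_of_le hLK, h, Subgroup.map_bot]))
    haveI := hMn
    -- all conjugates of `M` normalise `N`
    set M' := M.map K.subtype with hM'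
    have hconj : ∀ g : G, M'.map (MulAut.conj g).toMonoidHom ≤ Subgroup.normalizer (N : Set G) := by
      intro g
      let σ : K ≃* K := MulAut.conjNormal g
      haveI : (M.map σ.toMonoidHom).Normal := hMn.map _ σ.surjective
      have hmin' : ∀ J : Subgroup K, J.Normal → J ≤ M.map σ.toMonoidHom →
          J = ⊥ ∨ J = M.map σ.toMonoidHom := by
        intro J hJn hJ
        haveI := hJn
        rcases hMmin (J.map σ.symm.toMonoidHom) (hJn.map _ σ.symm.surjective) (by
          rintro _ ⟨y, hy, rfl⟩
          obtain ⟨z, hz, rfl⟩ := hJ hy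
          simpa using hz) with h1 | h1
        · left
          rwa [Subgroup.map_eq_bot_iff_of_injective _ σ.symm.injective] at h1
        · right
          refine le_antisymm hJ ?_
          rintro _ ⟨z, hz, rfl⟩
          rw [← h1] at hz
          obtain ⟨y, hy, rfl⟩ := hz
          simpa using hy
      have h2 := ih _ hlt' (L := M.map σ.toMonoidHom) (N := N.subgroupOf K) hmin' (hN.comap _) rfl
      rintro _ ⟨_, ⟨m, hm, rfl⟩, rfl⟩
      have h3 := h2 ⟨m, hm, rfl⟩
      have h4 : ((σ m : K) : G) = g * (m : G) * g⁻¹ := MulAut.conjNormal_apply g m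
      show g * (m : G) * g⁻¹ ∈ _
      rw [← h4]
      rw [Subgroup.mem_normalizer_iff] at h3 ⊢
      intro x
      constructor
      · intro hx
        exact (h3 ⟨x, hNK hx⟩).mp hx
      · intro hx
        have hxK : x ∈ K := by
          have h5 := K.mul_mem (K.mul_mem (K.inv_mem (σ m).2) (hNK hx)) (σ m).2
          simpa [mul_assoc] using h5
        exact (h3 ⟨x, hxK⟩).mpr hx
    set J : Subgroup G := ⨆ g : G, M'.map (MulAut.conj g).toMonoidHom with hJ
    have hJn : J.Normal := Components.normal_of_map_conj_eq fun g => by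
      rw [hJ, Subgroup.map_iSup]
      simp only [Subgroup.map_map]
      refine le_antisymm (iSup_le fun h => le_iSup_of_le (g * h) (le_of_eq ?_))
        (iSup_le fun h => le_iSup_of_le (g⁻¹ * h) (le_of_eq ?_))
      · congr 1; ext y; simp [mul_assoc]
      · congr 1; ext y; simp [mul_assoc]
    have hJL : J ≤ L := iSup_le fun g => by
      rintro _ ⟨_, ⟨m, hm, rfl⟩, rfl⟩
      exact (inferInstance : L.Normal).conj_mem (m : G) (hML hm) g
    have hJne : J ≠ ⊥ := fun h => hMne (by
      rw [← Subgroup.map_eq_bot_iff_of_injective _ K.subtype_injective, eq_bot_iff, ← h]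
      intro x hx
      refine (le_iSup (fun g : G => M'.map (MulAut.conj g).toMonoidHom) 1) ⟨x, hx, ?_⟩
      simp)
    rw [← (hmin J hJn hJL).resolve_left hJne]
    exact iSup_le hconj

theorem le_normalCore_of_subnormal {G : Type u} [Group G] [Finite G] {M N : Subgroup G}
    (hM : IsCoatom M) (hN : N.IsSubnormal) (hNM : N ≤ M) : N ≤ Subgroup.normalCore M := by
  set C := M.normalCore with hC
  set π := QuotientGroup.mk' C with hπ
  have hπs : Function.Surjective π := QuotientGroup.mk'_surjective C
  by_cases htop : C = ⊤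
  · rw [htop]; exact le_top
  haveI : Nontrivial (G ⧸ C) := QuotientGroup.nontrivial_iff.mpr htop
  obtain ⟨L, hLn, -, hLne, hLmin⟩ := Basics.exists_minimal_normal (N := (⊤ : Subgroup (G ⧸ C)))
    top_ne_bot
  haveI := hLn
  have hL : L ≤ Subgroup.normalizer ((N.map π : Subgroup (G ⧸ C)) : Set (G ⧸ C)) :=
    minimal_normal_le_normalizer hLmin (hN.map hπs)
  have hnot : ¬ L.comap π ≤ M := fun hle => by
    have h1 : L.comap π ≤ C := (Subgroup.normal_le_normalCore (N := L.comap π)).mpr hle
    apply hLne
    rw [← Subgroup.map_comap_eq_self_of_surjective hπs L, eq_bot_iff,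
      ← show C.map π = ⊥ from QuotientGroup.map_mk'_self C]
    exact Subgroup.map_mono h1
  have htop' : M ⊔ L.comap π = ⊤ := hM.2 _ (lt_of_le_of_ne le_sup_left fun he => hnot (le_sup_right.trans_eq he.symm))
  have hCM : C ≤ M := M.normalCore_le
  intro x hx g
  have hg : g ∈ ((M ⊔ L.comap π : Subgroup G) : Set G) := by
    rw [htop']; exact Subgroup.mem_top g
  rw [Subgroup.mul_normal] at hg
  obtain ⟨m, hm, l, hl, rfl⟩ := hg
  have h2 : π l * π x * (π l)⁻¹ ∈ N.map π :=
    (Subgroup.mem_normalizer_iff.mp (hL hl) _).mp ⟨x, hx, rfl⟩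
  obtain ⟨y, hy, hye⟩ := h2
  rw [← map_mul, ← map_inv, ← map_mul] at hye
  have h3 : y⁻¹ * (l * x * l⁻¹) ∈ C := QuotientGroup.eq.mp hye
  have h4 : l * x * l⁻¹ ∈ M := by
    have := M.mul_mem (hNM hy) (hCM h3)
    rwa [mul_inv_cancel_left] at this
  rw [show m * l * x * (m * l)⁻¹ = m * (l * x * l⁻¹) * m⁻¹ by group]
  exact M.mul_mem (M.mul_mem hm h4) (M.inv_mem hm)

end Cfsg.Agent.Coprime23
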