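import Cfsg.Agent.Lib.Basics.Tools
import Cfsg.Agent.Lib.Transfer.Residual

/-!
Sylow subgroups lying in a unique maximal subgroup.
-/

set_option autoImplicit false

namespace Cfsg.Agent.Coprime23

variable {G : Type*} [Group G] [Finite G] (T : Subgroup G) [T.Normal] (hT : IsSimpleGroup T)
  (hna : ¬ IsMulCommutative T) {r : ℕ} [Fact r.Prime] (R : Sylow r G)
  (hR0 : (R : Subgroup G) ⊓ T ≠ ⊥)

include hT hna hR0

theorem normalizer_ne_top : Subgroup.normalizer (((R : Subgroup G) ⊓ T : Subgroup G) : Set G) ≠ ⊤ := by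
  intro h
  haveI := hT
  haveI : ((R : Subgroup G) ⊓ T).Normal := Subgroup.normalizer_eq_top_iff.mp h
  have hn : (((R : Subgroup G) ⊓ T).subgroupOf T).Normal := inferInstance
  rcases hn.eq_bot_or_eq_top with h1 | h1
  · apply hR0
    rw [← Subgroup.map_subgroupOf_eq_of_le (inf_le_right : (R : Subgroup G) ⊓ T ≤ T), h1,
      Subgroup.map_bot]
  · apply hna
    have hle : T ≤ (R : Subgroup G) := (Subgroup.subgroupOf_eq_top.mp h1).trans inf_le_left
    haveI : Group.IsNilpotent T := (R.isPGroup'.to_le hle).isNilpotent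
    haveI : Nontrivial T := hT.toNontrivial
    have hc := Group.IsNilpotent.center_ne_bot T
    have hc' := ((inferInstance : (Subgroup.center T).Normal).eq_bot_or_eq_top).resolve_left hc
    exact ⟨⟨fun a b => Subgroup.mem_center_iff.mp (hc'.symm ▸ Subgroup.mem_top b) a⟩⟩

theorem normalizer_sylow_ne_top : Subgroup.normalizer ((R : Subgroup G) : Set G) ≠ ⊤ := fun h =>
  normalizer_ne_top T hT hna R hR0 (top_le_iff.mp (le_trans (by rw [h, Subgroup.normalizer_eq_top,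
    inf_top_eq]) (Subgroup.inf_normalizer_le_normalizer_inf (H := (R : Subgroup G)) (K := T))))

theorem existsUnique_iff :
    (∃! M : Subgroup G, IsCoatom M ∧ (R : Subgroup G) ≤ M) ↔
      ((∃ M : Subgroup G, IsCoatom M ∧ ¬ r ∣ M.index) ∧
        ∀ M₁ M₂ : Subgroup G, IsCoatom M₁ → ¬ r ∣ M₁.index → IsCoatom M₂ → ¬ r ∣ M₂.index →
          ∃ g : G, M₂ = M₁.map (MulAut.conj g).toMonoidHom) := by
  have hsyl : ∀ M : Subgroup G, ¬ r ∣ M.index →
      ∃ g : G, (R : Subgroup G) ≤ M.map (MulAut.conj g).toMonoidHom := by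
    intro M hM
    obtain ⟨S⟩ : Nonempty (Sylow r M) := Sylow.nonempty
    obtain ⟨U, hU⟩ := (S.isPGroup'.map M.subtype).exists_le_sylow
    have hSc : Nat.card ((S : Subgroup M).map M.subtype) = Nat.card (U : Subgroup G) := by
      rw [Subgroup.card_map_of_injective M.subtype_injective, S.card_eq_multiplicity,
        U.card_eq_multiplicity, ← M.index_mul_card, Nat.factorization_mul
          Subgroup.index_ne_zero_of_finite Nat.card_pos.ne', Finsupp.add_apply,
        Nat.factorization_eq_zero_of_not_dvd hM, zero_add]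
    have hUM : (U : Subgroup G) ≤ M := by
      rw [← Subgroup.eq_of_le_of_card_ge hU hSc.ge]
      exact Subgroup.map_subtype_le _
    obtain ⟨g, hg⟩ := MulAction.exists_smul_eq G U R
    refine ⟨g, ?_⟩
    rw [← hg, Sylow.coe_subgroup_smul]
    rintro x hx
    rw [Basics.mem_conj_smul] at hx
    exact ⟨g⁻¹ * x * g, hUM hx, by simp [mul_assoc]⟩
  have hmap : ∀ (g : G) (M : Subgroup G), IsCoatom M → IsCoatom (M.map (MulAut.conj g).toMonoidHom) :=
    fun g M hM => (OrderIso.isCoatom_iff (MulEquiv.mapSubgroup (MulAut.conj g)) M).mpr hM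
  have hnd : ∀ M : Subgroup G, (R : Subgroup G) ≤ M → ¬ r ∣ M.index := fun M hM hd =>
    R.not_dvd_index (hd.trans (Subgroup.index_dvd_of_le hM))
  constructor
  · rintro ⟨M, ⟨hM, hRM⟩, huniq⟩
    refine ⟨⟨M, hM, hnd M hRM⟩, fun M₁ M₂ h1 h1' h2 h2' => ?_⟩
    obtain ⟨g₁, hg₁⟩ := hsyl M₁ h1'
    obtain ⟨g₂, hg₂⟩ := hsyl M₂ h2'
    have e1 := huniq _ ⟨hmap g₁ M₁ h1, hg₁⟩
    have e2 := huniq _ ⟨hmap g₂ M₂ h2, hg₂⟩
    refine ⟨g₂⁻¹ * g₁, ?_⟩
    have h3 := congrArg (Subgroup.map (MulAut.conj g₂⁻¹).toMonoidHom) (e2.trans e1.symm)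
    rw [Subgroup.map_map, Subgroup.map_map] at h3
    convert h3 using 1
    · convert (Subgroup.map_id M₂).symm using 2
      ext y; simp [mul_assoc]
    · congr 1; ext y; simp [mul_assoc]
  · rintro ⟨-, hconj⟩
    obtain ⟨M₀, hM₀, hNM⟩ := (eq_top_or_exists_le_coatom _).resolve_left
      (normalizer_sylow_ne_top T hT hna R hR0)
    have hRM : (R : Subgroup G) ≤ M₀ := Subgroup.le_normalizer.trans hNM
    refine ⟨M₀, ⟨hM₀, hRM⟩, ?_⟩
    rintro M₁ ⟨hM₁, hR₁⟩
    obtain ⟨h, hh⟩ := hconj M₁ M₀ hM₁ (hnd M₁ hR₁) hM₀ (hnd M₀ hRM)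
    have hle : ((h • R : Sylow r G) : Subgroup G) ≤ M₀ := by
      rw [Sylow.coe_subgroup_smul, hh]
      intro x hx
      rw [Basics.mem_conj_smul] at hx
      exact ⟨h⁻¹ * x * h, hR₁ hx, by simp [mul_assoc]⟩
    obtain ⟨m, hm⟩ := MulAction.exists_smul_eq M₀ ((h • R).subtype hle) (R.subtype hRM)
    have h1 := congrArg (fun S : Sylow r M₀ => ((S : Subgroup M₀)).map M₀.subtype) hm
    simp only [Sylow.smul_subtype, Sylow.coe_subtype] at h1
    rw [Subgroup.map_subgroupOf_eq_of_le (Sylow.smul_le hle m),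
      Subgroup.map_subgroupOf_eq_of_le hRM] at h1
    have h2 : (m : G) * h ∈ M₀ := hNM (Sylow.smul_eq_iff_mem_normalizer.mp (by
      rw [mul_smul]; exact Sylow.ext h1))
    have h3 : h ∈ M₀ := by
      have := M₀.mul_mem (M₀.inv_mem m.2) h2
      rwa [inv_mul_cancel_left] at this
    ext x
    constructor
    · intro hx
      have h4 : h * x * h⁻¹ ∈ M₀ := hh.symm ▸ ⟨x, hx, rfl⟩
      have := M₀.mul_mem (M₀.mul_mem (M₀.inv_mem h3) h4) h3
      simpa [mul_assoc] using this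
    · intro hx
      have h4 : h * x * h⁻¹ ∈ M₀ := M₀.mul_mem (M₀.mul_mem h3 hx) (M₀.inv_mem h3)
      rw [hh] at h4
      obtain ⟨y, hy, hye⟩ := h4
      rwa [← (MulAut.conj h).injective hye]

theorem isPGroup_quotient (huniq : ∃! M : Subgroup G, IsCoatom M ∧ (R : Subgroup G) ≤ M) :
    IsPGroup r (G ⧸ T) := by
  obtain ⟨M, ⟨hM, hRM⟩, hu⟩ := huniq
  by_cases htop : T ⊔ (R : Subgroup G) = ⊤
  · intro x
    obtain ⟨g, rfl⟩ := QuotientGroup.mk_surjective x
    have hg : g ∈ ((T ⊔ (R : Subgroup G) : Subgroup G) : Set G) := by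
      rw [htop]; exact Subgroup.mem_top g
    rw [Subgroup.normal_mul] at hg
    obtain ⟨t, ht, y, hy, rfl⟩ := hg
    obtain ⟨k, hk⟩ := R.isPGroup' ⟨y, hy⟩
    refine ⟨k, ?_⟩
    rw [QuotientGroup.mk_mul, (QuotientGroup.eq_one_iff t).mpr ht, one_mul, ← QuotientGroup.mk_pow,
      show y ^ r ^ k = 1 from congrArg Subtype.val hk, QuotientGroup.mk_one]
  exfalso
  obtain ⟨M₁, hM₁, hle⟩ := (eq_top_or_exists_le_coatom _).resolve_left htop
  have hTM : T ≤ M := hu M₁ ⟨hM₁, le_sup_right.trans hle⟩ ▸ le_sup_left.trans hle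
  obtain ⟨M₂, hM₂, hNM⟩ := (eq_top_or_exists_le_coatom _).resolve_left
    (normalizer_ne_top T hT hna R hR0)
  have hRN : (R : Subgroup G) ≤ Subgroup.normalizer (((R : Subgroup G) ⊓ T : Subgroup G) : Set G) :=
    le_trans (le_inf Subgroup.le_normalizer (by rw [Subgroup.normalizer_eq_top]; exact le_top))
      Subgroup.inf_normalizer_le_normalizer_inf
  have hN : Subgroup.normalizer (((R : Subgroup G) ⊓ T : Subgroup G) : Set G) ≤ M :=
    hu M₂ ⟨hM₂, hRN.trans hNM⟩ ▸ hNM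
  apply hM.1
  rw [eq_top_iff]
  obtain ⟨P, hP⟩ := Transfer.exists_sylow_eq_subgroupOf R T
  have h := Sylow.normalizer_sup_eq_top P
  have hmap : (P : Subgroup T).map T.subtype = (R : Subgroup G) ⊓ T := by
    rw [hP, Subgroup.subgroupOf_map_subtype]
  rw [hmap] at h
  exact h ▸ sup_le hN hTM

end Cfsg.Agent.Coprime23
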