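import Cfsg.Agent.Lib.Basics.Cores
import Cfsg.Prelude.Def_Local

/-!
The upper `p`-series: monotonicity under homomorphisms, lifting through cores, subdirect products.
-/

set_option autoImplicit false

namespace Cfsg.Agent.Coprime23

open Cfsg

variable {G H : Type*} [Group G] [Group H] {p : ℕ}

/-- `A` to `B` is a step of the kind taken by the upper `p`-series at position `n`. -/
def IsPStep (p n : ℕ) (A B : Subgroup G) : Prop :=
  if Even n then (A.relIndex B).Coprime p else ∃ m, A.relIndex B = p ^ m

lemma isPStep_of_dvd [hp : Fact p.Prime] {n n' : ℕ} {A B : Subgroup G} {A' B' : Subgroup H}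
    (hn : Even n ↔ Even n') (hd : A'.relIndex B' ∣ A.relIndex B) (h : IsPStep p n A B) :
    IsPStep p n' A' B' := by
  by_cases he : Even n
  · rw [IsPStep, if_pos he] at h
    rw [IsPStep, if_pos (hn.mp he)]
    exact h.coprime_dvd_left hd
  · rw [IsPStep, if_neg he] at h
    rw [IsPStep, if_neg (fun x => he (hn.mpr x))]
    obtain ⟨m, hm⟩ := h
    obtain ⟨j, -, hj⟩ := (Nat.dvd_prime_pow hp.out).mp (hm ▸ hd)
    exact ⟨j, hj⟩

lemma relIndex_dvd_of_le_right {N K L : Subgroup G} [N.Normal] (h : K ≤ L) :
    N.relIndex K ∣ N.relIndex L := by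
  rw [← QuotientGroup.ker_mk' N, Subgroup.relIndex_ker, Subgroup.relIndex_ker]
  exact Subgroup.card_dvd_of_le (Subgroup.map_mono h)

lemma isPStep_inf [Fact p.Prime] {n : ℕ} {A B X : Subgroup G} [A.Normal] [B.Normal]
    (hA : IsPStep p n A X) (hB : IsPStep p n B X) : IsPStep p n (A ⊓ B) X := by
  have e : B.relIndex (A ⊓ X) * A.relIndex X = (A ⊓ B).relIndex X := by
    rw [inf_comm A B]
    exact Subgroup.relIndex_inf_mul_relIndex B A X
  have hd : B.relIndex (A ⊓ X) ∣ B.relIndex X := relIndex_dvd_of_le_right inf_le_right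
  have hB' : IsPStep p n B (A ⊓ X) := isPStep_of_dvd Iff.rfl hd hB
  by_cases he : Even n
  · rw [IsPStep, if_pos he] at hA hB' ⊢
    rw [← e]
    exact hB'.mul_left hA
  · rw [IsPStep, if_neg he] at hA hB' ⊢
    obtain ⟨a, ha⟩ := hA
    obtain ⟨b, hb⟩ := hB'
    exact ⟨b + a, by rw [← e, ha, hb, pow_add]⟩

lemma upperPSeries_succ_of_even {n : ℕ} (he : Even n) :
    (upperPSeries p G (n + 1)).1 =
      (pPrimeCore p (G ⧸ (upperPSeries p G n).1)).comap (QuotientGroup.mk' _) := by
  rw [upperPSeries]
  simp only [if_pos he]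

lemma upperPSeries_succ_of_odd {n : ℕ} (he : ¬ Even n) :
    (upperPSeries p G (n + 1)).1 =
      (pCore p (G ⧸ (upperPSeries p G n).1)).comap (QuotientGroup.mk' _) := by
  rw [upperPSeries]
  simp only [if_neg he]

lemma relIndex_comap_mk' {N : Subgroup G} [N.Normal] (K : Subgroup (G ⧸ N)) :
    N.relIndex (K.comap (QuotientGroup.mk' N)) = Nat.card K := by
  calc N.relIndex (K.comap (QuotientGroup.mk' N))
      = (QuotientGroup.mk' N).ker.relIndex (K.comap (QuotientGroup.mk' N)) := by
        rw [QuotientGroup.ker_mk']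
    _ = Nat.card K := by
        rw [Subgroup.relIndex_ker, Subgroup.map_comap_eq_self_of_surjective
          (QuotientGroup.mk'_surjective N)]

variable [Finite G] [Finite H] [hp : Fact p.Prime]

lemma isPStep_upperPSeries (n : ℕ) :
    IsPStep p n (upperPSeries p G n).1 (upperPSeries p G (n + 1)).1 := by
  by_cases he : Even n
  · rw [IsPStep, if_pos he, upperPSeries_succ_of_even he, relIndex_comap_mk']
    exact Cfsg.Agent.Basics.pPrimeCore_coprime p
  · rw [IsPStep, if_neg he, upperPSeries_succ_of_odd he, relIndex_comap_mk']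
    exact IsPGroup.iff_card.mp (Cfsg.Agent.Basics.pCore_isPGroup p)

lemma le_upperPSeries_succ {n : ℕ} {B : Subgroup G} [hB : B.Normal]
    (h : IsPStep p n (upperPSeries p G n).1 B) : B ≤ (upperPSeries p G (n + 1)).1 := by
  haveI := hB.map (QuotientGroup.mk' (upperPSeries p G n).1) (QuotientGroup.mk'_surjective _)
  have hc : (upperPSeries p G n).1.relIndex B =
      Nat.card (B.map (QuotientGroup.mk' (upperPSeries p G n).1)) := by
    rw [← Subgroup.relIndex_ker, QuotientGroup.ker_mk']
  by_cases he : Even n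
  · rw [IsPStep, if_pos he, hc] at h
    rw [upperPSeries_succ_of_even he, ← Subgroup.map_le_iff_le_comap]
    exact Cfsg.Agent.Basics.le_pPrimeCore h
  · rw [IsPStep, if_neg he, hc] at h
    obtain ⟨m, hm⟩ := h
    rw [upperPSeries_succ_of_odd he, ← Subgroup.map_le_iff_le_comap]
    exact Cfsg.Agent.Basics.le_pCore (IsPGroup.of_card hm)

lemma upperPSeries_le_succ (n : ℕ) : (upperPSeries p G n).1 ≤ (upperPSeries p G (n + 1)).1 := by
  refine le_upperPSeries_succ ?_
  unfold IsPStep
  rw [Subgroup.relIndex_self]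
  split
  · exact Nat.coprime_one_left p
  · exact ⟨0, rfl⟩

lemma pLengthLE_mono {k k' : ℕ} (hk : k ≤ k') (h : PLengthLE p k G) : PLengthLE p k' G := by
  have hm : Monotone fun n => (upperPSeries p G n).1 :=
    monotone_nat_of_le_succ upperPSeries_le_succ
  exact top_le_iff.mp (le_of_eq_of_le h.symm (hm (by omega)))

lemma map_upperPSeries_le (f : G →* H) (hf : Function.Surjective f) {a b : ℕ}
    (hab : Even a ↔ Even b) (h : (upperPSeries p G a).1.map f ≤ (upperPSeries p H b).1) (j : ℕ) :
    (upperPSeries p G (a + j)).1.map f ≤ (upperPSeries p H (b + j)).1 := by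
  induction j with
  | zero => exact h
  | succ j ih =>
    haveI := (upperPSeries p G (a + j + 1)).2.map f hf
    refine le_upperPSeries_succ (isPStep_of_dvd ?_ ?_ (isPStep_upperPSeries (G := G) (a + j)))
    · show Even (a + j) ↔ Even (b + j)
      rw [Nat.even_add, Nat.even_add, hab]
    · refine dvd_trans (Subgroup.relIndex_dvd_of_le_left _ ih) ?_
      have hsurj := f.subgroupMap_surjective (upperPSeries p G (a + j + 1)).1
      refine dvd_trans (Subgroup.index_dvd_of_le ?_)
        (Subgroup.index_map_dvd ((upperPSeries p G (a + j)).1.subgroupOf _) hsurj)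
      rintro _ ⟨x, hx, rfl⟩
      exact ⟨x, hx, rfl⟩

lemma comap_upperPSeries_le (f : G →* H) (hf : Function.Surjective f) {a b : ℕ}
    (hab : Even a ↔ Even b) (h : (upperPSeries p H a).1.comap f ≤ (upperPSeries p G b).1) (j : ℕ) :
    (upperPSeries p H (a + j)).1.comap f ≤ (upperPSeries p G (b + j)).1 := by
  induction j with
  | zero => exact h
  | succ j ih =>
    refine le_upperPSeries_succ (isPStep_of_dvd ?_ ?_ (isPStep_upperPSeries (G := H) (a + j)))
    · show Even (a + j) ↔ Even (b + j)
      rw [Nat.even_add, Nat.even_add, hab]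
    · refine dvd_trans (Subgroup.relIndex_dvd_of_le_left _ ih) ?_
      rw [Subgroup.relIndex_comap, Subgroup.map_comap_eq_self_of_surjective hf]
      exact dvd_refl _

lemma pLengthLE_map (f : G →* H) (hf : Function.Surjective f) {k : ℕ} (h : PLengthLE p k G) :
    PLengthLE p k H := by
  have h1 := map_upperPSeries_le (p := p) f hf (a := 0) (b := 0) Iff.rfl
    (le_of_eq (Subgroup.map_bot f)) (2 * k + 1)
  rw [Nat.zero_add] at h1
  unfold PLengthLE at h ⊢
  rw [h, Subgroup.map_top_of_surjective f hf] at h1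
  exact top_le_iff.mp h1

lemma upperPSeries_one : (upperPSeries p G 1).1 = pPrimeCore p G := by
  have h0 := isPStep_upperPSeries (G := G) (p := p) 0
  rw [IsPStep, if_pos Even.zero, show (upperPSeries p G 0).1 = ⊥ from rfl,
    Subgroup.relIndex_bot_left] at h0
  haveI : (pPrimeCore p G).Normal := Cfsg.Agent.Basics.pPrimeCore_normal p
  refine le_antisymm (Cfsg.Agent.Basics.le_pPrimeCore h0) (le_upperPSeries_succ ?_)
  rw [IsPStep, if_pos Even.zero, show (upperPSeries p G 0).1 = ⊥ from rfl,
    Subgroup.relIndex_bot_left]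
  exact Cfsg.Agent.Basics.pPrimeCore_coprime p

lemma upperPSeries_two (h : pPrimeCore p G = ⊥) : (upperPSeries p G 2).1 = pCore p G := by
  have h0 := isPStep_upperPSeries (G := G) (p := p) 1
  rw [IsPStep, if_neg (by decide : ¬ Even 1), upperPSeries_one, h, Subgroup.relIndex_bot_left] at h0
  haveI : (pCore p G).Normal := Cfsg.Agent.Basics.pCore_normal p
  obtain ⟨m, hm⟩ := h0
  refine le_antisymm (Cfsg.Agent.Basics.le_pCore (IsPGroup.of_card hm)) (le_upperPSeries_succ ?_)
  rw [IsPStep, if_neg (by decide : ¬ Even 1), upperPSeries_one, h, Subgroup.relIndex_bot_left]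
  exact IsPGroup.iff_card.mp (Cfsg.Agent.Basics.pCore_isPGroup p)

/-- A normal `p'`-subgroup does not affect the `p`-length. -/
lemma pLengthLE_of_quotient_coprime {N : Subgroup G} [N.Normal] (hN : (Nat.card N).Coprime p)
    {k : ℕ} (h : PLengthLE p k (G ⧸ N)) : PLengthLE p k G := by
  have hbase : (upperPSeries p (G ⧸ N) 1).1.comap (QuotientGroup.mk' N) ≤
      (upperPSeries p G 1).1 := by
    rw [upperPSeries_one, upperPSeries_one]
    haveI : (pPrimeCore p (G ⧸ N)).Normal := Cfsg.Agent.Basics.pPrimeCore_normal p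
    refine Cfsg.Agent.Basics.le_pPrimeCore ?_
    rw [Cfsg.Agent.Basics.card_comap_mk']
    exact hN.mul_left (Cfsg.Agent.Basics.pPrimeCore_coprime p)
  have h1 := comap_upperPSeries_le (p := p) _ (QuotientGroup.mk'_surjective N) (a := 1) (b := 1)
    Iff.rfl hbase (2 * k)
  unfold PLengthLE at h ⊢
  rw [Nat.add_comm 1 (2 * k), h, Subgroup.comap_top] at h1
  exact top_le_iff.mp h1

/-- Going up through `O_p` when `O_{p'}` is trivial. -/
lemma pLengthLE_succ_of_quotient_pCore (h : pPrimeCore p G = ⊥) [(pCore p G).Normal] {k : ℕ}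
    (hk : PLengthLE p k (G ⧸ pCore p G)) : PLengthLE p (k + 1) G := by
  have hbase : (upperPSeries p (G ⧸ pCore p G) 0).1.comap (QuotientGroup.mk' _) ≤
      (upperPSeries p G 2).1 := by
    rw [upperPSeries_two h, show (upperPSeries p (G ⧸ pCore p G) 0).1 = ⊥ from rfl,
      MonoidHom.comap_bot, QuotientGroup.ker_mk']
  have h1 := comap_upperPSeries_le (p := p) _ (QuotientGroup.mk'_surjective _) (a := 0) (b := 2)
    (by decide) hbase (2 * k + 1)
  unfold PLengthLE at hk ⊢
  rw [Nat.zero_add, hk, Subgroup.comap_top] at h1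
  rw [show 2 * (k + 1) + 1 = 2 + (2 * k + 1) by omega]
  exact top_le_iff.mp h1

/-- Going down through `O_p` when `O_{p'}` is trivial. -/
lemma pLengthLE_quotient_pCore (h : pPrimeCore p G = ⊥) [(pCore p G).Normal] {k : ℕ}
    (hk : PLengthLE p (k + 1) G) : PLengthLE p k (G ⧸ pCore p G) := by
  have hbase : (upperPSeries p G 2).1.map (QuotientGroup.mk' (pCore p G)) ≤
      (upperPSeries p (G ⧸ pCore p G) 0).1 := by
    rw [upperPSeries_two h, QuotientGroup.map_mk'_self]
    exact bot_le
  have h1 := map_upperPSeries_le (p := p) _ (QuotientGroup.mk'_surjective (pCore p G)) (a := 2)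
    (b := 0) (by decide) hbase (2 * k + 1)
  unfold PLengthLE at hk ⊢
  rw [show 2 + (2 * k + 1) = 2 * (k + 1) + 1 by omega, hk,
    Subgroup.map_top_of_surjective _ (QuotientGroup.mk'_surjective _), Nat.zero_add] at h1
  exact top_le_iff.mp h1

lemma eq_bot_of_pLengthLE_zero (h : pPrimeCore p G = ⊥) (hk : PLengthLE p 0 G) :
    (⊤ : Subgroup G) = ⊥ := by
  rw [PLengthLE, Nat.mul_zero, Nat.zero_add, upperPSeries_one, h] at hk
  exact hk.symm

/-- The `p`-length of a subdirect product is the largest one. -/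
lemma pLengthLE_of_subdirect {ι : Type*} [Fintype ι] (N : ι → Subgroup G) [∀ i, (N i).Normal]
    (hN : ⨅ i, N i = ⊥) {k : ℕ} (h : ∀ i, PLengthLE p k (G ⧸ N i)) : PLengthLE p k G := by
  have key : ∀ n, (⨅ i, (upperPSeries p (G ⧸ N i) n).1.comap (QuotientGroup.mk' (N i))) ≤
      (upperPSeries p G n).1 := by
    intro n
    induction n with
    | zero =>
      refine le_of_eq_of_le ?_ bot_le
      rw [← hN]
      refine iInf_congr fun i => ?_
      show (⊥ : Subgroup (G ⧸ N i)).comap _ = N i
      rw [MonoidHom.comap_bot, QuotientGroup.ker_mk']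
    | succ n ih =>
      set A := fun i => (upperPSeries p (G ⧸ N i) n).1.comap (QuotientGroup.mk' (N i))
      set X := ⨅ i, (upperPSeries p (G ⧸ N i) (n + 1)).1.comap (QuotientGroup.mk' (N i))
      haveI : X.Normal := Subgroup.normal_iInf_normal fun i => inferInstance
      have hA : ∀ i, IsPStep p n (A i) X := by
        intro i
        refine isPStep_of_dvd Iff.rfl ?_ (isPStep_upperPSeries (G := G ⧸ N i) n)
        refine dvd_trans (relIndex_dvd_of_le_right (iInf_le _ i)) ?_
        rw [Subgroup.relIndex_comap,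
          Subgroup.map_comap_eq_self_of_surjective (QuotientGroup.mk'_surjective _)]
      have hs : ∀ s : Finset ι, (s.inf A).Normal ∧ IsPStep p n (s.inf A) X := by
        intro s
        induction s using Finset.cons_induction with
        | empty =>
          rw [Finset.inf_empty]
          refine ⟨inferInstance, ?_⟩
          unfold IsPStep
          rw [Subgroup.relIndex_top_left]
          split
          · exact Nat.coprime_one_left p
          · exact ⟨0, rfl⟩
        | cons a s ha ih' =>
          rw [Finset.inf_cons]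
          haveI := ih'.1
          haveI : (A a).Normal := inferInstanceAs ((upperPSeries p (G ⧸ N a) n).1.comap _).Normal
          exact ⟨inferInstance, isPStep_inf (hA a) ih'.2⟩
      refine le_upperPSeries_succ (isPStep_of_dvd Iff.rfl ?_ (hs Finset.univ).2)
      rw [Finset.inf_univ_eq_iInf]
      exact Subgroup.relIndex_dvd_of_le_left X ih
  have h1 := key (2 * k + 1)
  unfold PLengthLE at h ⊢
  refine top_le_iff.mp (le_trans ?_ h1)
  simp [h]

/-- A bound on the derived length of Sylow subgroups passes to quotients. -/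
lemma derivedSeries_sylow_map (f : G →* H) (hf : Function.Surjective f) {d : ℕ}
    (h : ∀ S : Sylow p G, derivedSeries ↥(S : Subgroup G) d = ⊥) (T : Sylow p H) :
    derivedSeries ↥(T : Subgroup H) d = ⊥ := by
  obtain ⟨S, hS⟩ := Sylow.mapSurjective_surjective hf p T
  have hT : (T : Subgroup H) = (S : Subgroup G).map f := by rw [← hS]; rfl
  rw [hT, ← map_derivedSeries_eq (f := f.subgroupMap (S : Subgroup G))
    (f.subgroupMap_surjective _) d, h S, Subgroup.map_bot]

end Cfsg.Agent.Coprime23
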